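import Cfsg.Agent.ThreeTransposition.Y332.Relators
import Cfsg.Agent.FiPres.Transp

/-!
A group of type M(22) is the presented Fischer group, the class going to the class of the first letter.
-/

set_option autoImplicit false
set_option linter.unusedSectionVars false
set_option linter.style.haveILetI false

namespace Cfsg.Lib.ThreeTr.Y332

open Cfsg Subgroup

universe u

theorem label_ok : ∀ x y : Fin 9, Cfsg.Spor.coxLabel Cfsg.Spor.Fi22.edges (FiPres.genOf x.val) (FiPres.genOf y.val) =
    if x = y then 1 else if joined x y then 3 else 2 := by decide +kernel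

variable {G : Type u} [Group G] [Finite G] {D : Set G}

/-- The nine members satisfy all relators. -/
theorem good_pres (h : M22 D) {v : Fin 9 → G} (hv : Nine D v) : FiPres.Good (letters v) := by
  intro w hw
  rcases List.mem_append.1 hw with hw | hw
  · obtain ⟨x, hx, hw⟩ := List.mem_flatMap.1 hw
    obtain ⟨y, hy, rfl⟩ := List.mem_map.1 hw
    rw [List.mem_range] at hx hy
    rw [FiPres.pairWord, FiPres.wval_rpt, FiPres.wval_cons, FiPres.wval_cons, FiPres.wval_nil, mul_one,
      label_ok ⟨x, hx⟩ ⟨y, hy⟩, letters, letters, dif_pos hx, dif_pos hy]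
    have hE := h.cls.1
    split_ifs with e1 e2
    · rw [pow_one, e1, sq_eq_one hE (hv.mem _)]
    · exact cube_of_not_commute hE (hv.mem _) (hv.mem _) fun c => by
        simpa [e2] using (hv.rel _ _ e1).1 c
    · exact (commute_iff_sq (sq_eq_one hE (hv.mem _)) (sq_eq_one hE (hv.mem _))).1
        ((hv.rel _ _ e1).2 (by simpa using e2))
  · obtain ⟨h1, h2, h3⟩ := relators h hv
    simp only [FiPres.extraWords, List.mem_cons, List.not_mem_nil, or_false] at hw
    rcases hw with rfl | rfl | rfl <;> rw [FiPres.wval_rpt]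
    exacts [h1, h2, h3]

/-- A group of type M(22) is the presented Fischer group. -/
theorem exists_iso (h : M22 D) : ∃ e : Cfsg.Spor.Fi22 ≃* G, e '' FiPres.transp = D := by
  obtain ⟨v, hv⟩ := exists_nine h
  let φ : Cfsg.Spor.Fi22 →* G := PresentedGroup.toGroup (good_pres h hv).relators
  have ha : φ (FiPres.im10 0) = v 0 := by
    rw [FiPres.im10_low (by norm_num), FiPres.im]
    exact PresentedGroup.toGroup.of _
  have hinj : Function.Injective φ := by
    haveI := FiPres.simple_fi
    rcases (MonoidHom.normal_ker φ).eq_bot_or_eq_top with e | e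
    · exact φ.ker_eq_bot_iff.1 e
    · exfalso
      have : FiPres.im10 0 ∈ φ.ker := e ▸ mem_top _
      rw [MonoidHom.mem_ker, ha] at this
      have h2 := h.cls.1.1 (v 0) (hv.mem 0)
      rw [this, orderOf_one] at h2
      omega
  haveI : Finite Cfsg.Spor.Fi22 := Finite.of_injective φ hinj
  have hbij : Function.Bijective φ := by
    haveI := Fintype.ofFinite G
    haveI := Fintype.ofFinite Cfsg.Spor.Fi22
    refine (Fintype.bijective_iff_injective_and_card φ).2 ⟨hinj, ?_⟩
    rw [← Nat.card_eq_fintype_card, ← Nat.card_eq_fintype_card, FiPres.factG.1, h.card_group (hv.mem 0)]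
  refine ⟨MulEquiv.ofBijective φ hbij, Set.ext fun x => ⟨?_, fun hx => ?_⟩⟩
  · rintro ⟨y, hy, rfl⟩
    obtain ⟨g, rfl⟩ := FiPres.mem_transp.1 hy
    show φ _ ∈ D
    rw [map_mul, map_mul, ha, map_inv]
    exact conj_mem h.cls _ (hv.mem 0)
  · obtain ⟨k, rfl⟩ := exists_conj h.cls (hv.mem 0) hx
    obtain ⟨g, rfl⟩ := hbij.2 k
    exact ⟨g * FiPres.im10 0 * g⁻¹, FiPres.mem_transp.2 ⟨g, rfl⟩, by
      show φ _ = _
      rw [map_mul, map_mul, ha, map_inv]⟩

end Cfsg.Lib.ThreeTr.Y332
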