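import Cfsg.Agent.ThreeTransposition.Y332.Local
import Cfsg.Agent.ThreeTransposition.M22Count.MuValue
import Cfsg.Agent.ThreeTransposition.M22Hexad

/-!
The common neighbours of two noncommuting members: no hexad through the one member has three of them, and two
noncommuting ones among them have exactly eighteen of them as common neighbours.
-/

set_option autoImplicit false
set_option linter.unusedSectionVars false
set_option linter.style.haveILetI false

namespace Cfsg.Lib.ThreeTr.Y332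

open Cfsg Subgroup

attribute [local instance] _root_.Classical.propDecidable

universe u

variable {G : Type u} [Group G]

/-- Double counting of a relation. -/
theorem count_le [Finite G] {s t : Set G} (r : G → G → Prop) {m n : ℕ}
    (hm : ∀ x ∈ s, m ≤ ({y | y ∈ t ∧ r x y}).ncard) (hn : ∀ y ∈ t, ({x | x ∈ s ∧ r x y}).ncard ≤ n) :
    s.ncard * m ≤ t.ncard * n := by
  have e : ∀ (u : Set G) (P : G → Prop), ((Set.toFinite u).toFinset.filter P).card = ({y | y ∈ u ∧ P y}).ncard := by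
    intro u P
    rw [← Set.ncard_coe_finset, Finset.coe_filter]
    simp
  rw [Set.ncard_eq_toFinset_card s, Set.ncard_eq_toFinset_card t]
  refine Finset.card_mul_le_card_mul r (fun x hx => ?_) fun y hy => ?_
  · rw [Finset.bipartiteAbove, e]; exact hm x (by simpa using hx)
  · rw [Finset.bipartiteBelow, e]; exact hn y (by simpa using hy)

/-- A tight double count. -/
theorem count_tight [Finite G] {s t : Set G} (r : G → G → Prop) {m n : ℕ}
    (hm : ∀ x ∈ s, ({y | y ∈ t ∧ r x y}).ncard = m) (hn : ∀ y ∈ t, ({x | x ∈ s ∧ r x y}).ncard ≤ n)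
    (he : s.ncard * m = t.ncard * n) {y : G} (hy : y ∈ t) : ({x | x ∈ s ∧ r x y}).ncard = n := by
  have e : ∀ (u : Set G) (P : G → Prop), ((Set.toFinite u).toFinset.filter P).card = ({y | y ∈ u ∧ P y}).ncard := by
    intro u P
    rw [← Set.ncard_coe_finset, Finset.coe_filter]
    simp
  by_contra hne
  have hsum : ∑ y ∈ (Set.toFinite t).toFinset, ((Set.toFinite s).toFinset.bipartiteBelow r y).card <
      ∑ _y ∈ (Set.toFinite t).toFinset, n := by
    refine Finset.sum_lt_sum (fun z hz => ?_) ⟨y, by simpa using hy, ?_⟩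
    · rw [Finset.bipartiteBelow, e]; exact hn z (by simpa using hz)
    · rw [Finset.bipartiteBelow, e]; exact lt_of_le_of_ne (hn y hy) hne
  rw [← Finset.sum_card_bipartiteAbove_eq_sum_card_bipartiteBelow,
    Finset.sum_congr rfl (fun x hx => show ((Set.toFinite t).toFinset.bipartiteAbove r x).card = m from by
      rw [Finset.bipartiteAbove, e]; exact hm x (by simpa using hx))] at hsum
  simp only [Finset.sum_const, smul_eq_mul, ← Set.ncard_eq_toFinset_card] at hsum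
  omega

variable [Finite G] {D : Set G}

/-- The common neighbours of two members. -/
abbrev Common (D : Set G) (a b : G) : Set G := perp D a ∩ perp D b

/-- The common neighbours of four members. -/
def Quad (D : Set G) (a b f g : G) : Set G := {z | z ∈ Common D a b ∧ Commute z f ∧ Commute z g}

variable (h : M22 D) {a b : G} (ha : a ∈ D) (hb : b ∈ D) (hab : ¬ Commute a b)
include h ha hb hab

theorem ends {x : G} (hx : x ∈ Common D a b) : a ∈ perp D x ∧ b ∈ perp D x :=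
  ⟨⟨ha, hx.1.2.1.symm, hx.1.2.2.symm⟩, hb, hx.2.2.1.symm, hx.2.2.2.symm⟩

theorem mem_common {x z : G} (hz : z ∈ perp D x) (hza : Commute z a) (hzb : Commute z b) : z ∈ Common D a b :=
  ⟨⟨hz.1, fun e => hab (e ▸ hzb), hza.symm⟩, hz.1, fun e => hab (e ▸ hza).symm, hzb.symm⟩

/-- A member of a set of common neighbours is in the neighbourhood of another commuting one. -/
theorem common_mem_perp {x z : G} (hz : z ∈ Common D a b) (hne : z ≠ x) (hc : Commute x z) : z ∈ perp D x :=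
  ⟨hz.1.1, hne, hc⟩

theorem conj_closed {x z : G} (hx : x ∈ Common D a b) (hz : z ∈ Common D a b) : x * z * x ∈ Common D a b := by
  have hxz : x * z * x ∈ D := conj_invol_mem h.cls hx.1.1 hz.1.1
  have c1 : Commute (x * z * x) a := ((hx.1.2.2.symm.mul_left hz.1.2.2.symm).mul_left hx.1.2.2.symm)
  have c2 : Commute (x * z * x) b := ((hx.2.2.2.symm.mul_left hz.2.2.2.symm).mul_left hx.2.2.2.symm)
  exact ⟨⟨hxz, fun e => hab (e ▸ c2), c1.symm⟩, hxz, fun e => hab (e ▸ c1).symm, c2.symm⟩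

/-- Three pairwise commuting common neighbours do not commute with a noncommuting pair near the first member. -/
theorem no_triple {x y u v w : G} (hx : x ∈ perp D a) (hy : y ∈ perp D a) (hxy : ¬ Commute x y)
    (hu : u ∈ Common D a b) (hv : v ∈ Common D a b) (hw : w ∈ Common D a b) (huv' : u ≠ v) (huw' : u ≠ w)
    (hvw' : v ≠ w) (huv : Commute u v) (huw : Commute u w) (hvw : Commute v w) (hux : Commute u x)
    (huy : Commute u y) (hvx : Commute v x) (hvy : Commute v y) (hwx : Commute w x) (hwy : Commute w y) : False := by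
  have ht : w ∈ tperp D a u v := ⟨hw.1.1, fun e he h1 h2 h3 =>
    collinear h ha hx hy hxy hu.1 hv.1 hw.1 huv' huv huw hvw hux huy hvx hvy hwx hwy he h1 h2 h3⟩
  obtain ⟨p, q, r, hnd, hcomm, hmem, hprod, hin⟩ := m22_hexad h.cls h.prim h.twin h.type ha hu.1.1 hv.1.1
    hu.1.2.1.symm hv.1.2.1.symm huv' hu.1.2.2 hv.1.2.2 huv
  have hwl := hin w ht
  simp only [List.mem_cons, List.not_mem_nil, or_false] at hwl
  -- the member, two others of the six, and the three
  obtain ⟨s, t, hs, ht', hst, hsa, hta, hpr⟩ : ∃ s t, s ∈ [a, u, v, p, q, r] ∧ t ∈ [a, u, v, p, q, r] ∧ s ≠ t ∧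
      a ≠ s ∧ a ≠ t ∧ u * v * w * (a * s * t) = 1 := by
    have hn := hnd
    simp only [List.nodup_cons, List.mem_cons, List.not_mem_nil, or_false, not_or, List.nodup_nil,
      and_true, not_false_eq_true] at hn
    obtain ⟨⟨-, -, hap, haq, har⟩, -, -, ⟨hpq, hpr⟩, hqr⟩ := hn
    have perm : ∀ {s t : G}, [a, u, v, p, q, r].Perm [u, v, w, a, s, t] → u * v * w * (a * s * t) = 1 := by
      intro s t hp
      rw [← hprod, hp.prod_eq' (List.Pairwise.imp_of_mem (fun {x y} hx hy _ => hcomm x hx y hy) hnd)]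
      simp [mul_assoc]
    rcases hwl with e | e | e | e | e | e
    · exact absurd e.symm hw.1.2.1.symm
    · exact absurd e.symm huw'
    · exact absurd e.symm hvw'
    · subst e
      exact ⟨q, r, by simp, by simp, hqr, haq, har, perm (((List.Perm.swap _ _ _).trans
        (((List.Perm.swap _ _ _).trans ((List.Perm.swap _ _ _).cons v)).cons u)))⟩
    · subst e
      exact ⟨p, r, by simp, by simp, hpr, hap, har, perm (((List.Perm.swap _ _ _).trans
        (((List.Perm.swap _ _ _).trans ((((List.Perm.swap _ _ _).cons a).trans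
          (List.Perm.swap _ _ _)).cons v)).cons u)))⟩
    · subst e
      exact ⟨p, q, by simp, by simp, hpq, hap, haq, perm (((List.Perm.swap _ _ _).trans
        (((List.Perm.swap _ _ _).trans (((((List.Perm.swap _ _ _).cons p).trans (List.Perm.swap _ _ _)).cons a).trans
          (List.Perm.swap _ _ _) |>.cons v)).cons u)))⟩
  have hbw : Commute b (u * v * w) := (hu.2.2.2.mul_right hv.2.2.2).mul_right hw.2.2.2
  have hba : Commute b (a * s * t) := by
    rw [eq_inv_of_mul_eq_one_right hpr]; exact hbw.inv_right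
  exact hab ((commute_triple_iff h.cls.1 ha (hmem s hs) (hmem t ht') hb hsa hta hst
    (hcomm a (by simp) s hs) (hcomm a (by simp) t ht') (hcomm s hs t ht')).1 hba).1.symm

/-- A common neighbour commutes with 45 others. -/
theorem degree {f : G} (hf : f ∈ Common D a b) :
    ({z | z ∈ Common D a b ∧ z ≠ f ∧ Commute z f}).ncard = 45 := by
  obtain ⟨h1, h2⟩ := ends h ha hb hab hf
  rw [← h.ncard_pair hf.1.1 h1 h2 hab]
  congr 1
  ext z
  exact ⟨fun ⟨hz, hne, hc⟩ => ⟨⟨hz.1.1, hne, hc.symm⟩, hz.1.2.2.symm, hz.2.2.2.symm⟩,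
    fun ⟨hz, hza, hzb⟩ => ⟨mem_common h ha hb hab hz hza hzb, hz.2.1, hz.2.2.symm⟩⟩

variable {f g : G} (hf : f ∈ Common D a b) (hg : g ∈ Common D a b) (hfg : ¬ Commute f g)
include hf hg hfg

theorem quad_ne {x : G} (hx : x ∈ Quad D a b f g) : x ≠ f ∧ x ≠ g :=
  ⟨fun e => hfg (e ▸ hx.2.2), fun e => hfg (e ▸ hx.2.1).symm⟩

theorem quad_perp {x : G} (hx : x ∈ Quad D a b f g) : f ∈ perp D x ∧ g ∈ perp D x :=
  ⟨⟨hf.1.1, (quad_ne h ha hb hab hf hg hfg hx).1.symm, hx.2.1⟩,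
    hg.1.1, (quad_ne h ha hb hab hf hg hfg hx).2.symm, hx.2.2⟩

/-- Each of the common neighbours of four has three neighbours among them, pairwise noncommuting. -/
theorem quad_nbrs {x : G} (hx : x ∈ Quad D a b f g) :
    ({y | y ∈ Quad D a b f g ∧ y ≠ x ∧ Commute y x}).ncard = 3 ∧
      ∀ y ∈ Quad D a b f g, ∀ y' ∈ Quad D a b f g, y ≠ x → Commute y x → y' ≠ x → Commute y' x → Commute y y' →
        y' = y := by
  obtain ⟨h1, h2⟩ := ends h ha hb hab hx.1
  obtain ⟨h3, h4⟩ := quad_perp h ha hb hab hf hg hfg hx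
  obtain ⟨e, hpw⟩ := count_three h hx.1.1.1 h1 h2 hab h3 h4 hfg hf.1.2.2.symm hf.2.2.2.symm hg.1.2.2.symm
    hg.2.2.2.symm
  refine ⟨?_, fun y hy y' hy' n1 c1 n2 c2 c => hpw y ⟨hy.1.1.1, n1, c1.symm⟩ y' ⟨hy'.1.1.1, n2, c2.symm⟩
    hy.1.1.2.2.symm hy.1.2.2.2.symm hy.2.1 hy.2.2 hy'.1.1.2.2.symm hy'.1.2.2.2.symm hy'.2.1 hy'.2.2 c⟩
  rw [← e]
  congr 1
  ext z
  exact ⟨fun ⟨hz, hne, hc⟩ => ⟨⟨hz.1.1.1, hne, hc.symm⟩, hz.1.1.2.2.symm, hz.1.2.2.2.symm, hz.2.1, hz.2.2⟩,
    fun ⟨hz, hza, hzb, hzf, hzg⟩ => ⟨⟨mem_common h ha hb hab hz hza hzb, hzf, hzg⟩, hz.2.1, hz.2.2.symm⟩⟩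

/-- At most six of them commute with another member near the first of the pair. -/
theorem quad_near {z : G} (hz : z ∈ perp D a) (hzf : Commute z f) (hzg : Commute z g) (hzb : ¬ Commute z b) :
    ({x | x ∈ Quad D a b f g ∧ Commute x z}).ncard ≤ 6 := by
  set N := {w | w ∈ perp D a ∧ Commute w f ∧ Commute w g ∧ Commute w z} \ {z} with hN
  set M := {x | x ∈ Quad D a b f g ∧ Commute x z} with hM
  have hNc : N.ncard = 12 := by
    rw [hN, Set.ncard_sdiff_singleton_of_mem (show z ∈ {w | w ∈ perp D a ∧ _} from ⟨hz, hzf, hzg, Commute.refl z⟩),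
      count_thirteen h ha hf.1 hg.1 hfg hz hzf hzg]
  have hxz : ∀ x ∈ M, x ≠ z := fun x hx e => hzb (e ▸ hx.1.1.2.2.2.symm)
  have hsub : M ⊆ N := fun x hx => ⟨⟨hx.1.1.1, hx.1.2.1, hx.1.2.2, hx.2⟩, hxz x hx⟩
  have htr : ∀ x ∈ M, ∀ w ∈ N, ∀ x' ∈ M, Commute x w → Commute x' w → Commute x' x := by
    intro x hx w hw x' hx' c c'
    exact (collinear h ha hf.1 hg.1 hfg hz hw.1.1 hx'.1.1.1 (fun e => hw.2 e.symm) hw.1.2.2.2.symm hx'.2.symm c'.symm
      hzf hzg hw.1.2.1 hw.1.2.2.1 hx'.1.2.1 hx'.1.2.2 hx.1.1.1.1 hx.1.1.1.2.2.symm hx.2 c).symm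
  have habove : ∀ x ∈ M, 2 ≤ ({w | w ∈ N \ M ∧ Commute x w}).ncard := by
    intro x hx
    have h5 := count_five h ha hf.1 hg.1 hfg hz hx.1.1.1 (hxz x hx).symm hx.2.symm hzf hzg hx.1.2.1 hx.1.2.2
    have h1 : ({w | w ∈ M ∧ w ≠ x ∧ Commute x w}).ncard ≤ 1 := by
      refine Set.ncard_le_one_iff (Set.toFinite _) |>.2 fun {u v} ⟨hu, hux, cu⟩ ⟨hv, hvx, cv⟩ => ?_
      by_contra hne
      exact no_triple h ha hb hab hf.1 hg.1 hfg hx.1.1 hu.1.1 hv.1.1 hux.symm hvx.symm hne cu cv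
        (htr v hv x (hsub hx) u hu cv.symm cu.symm) hx.1.2.1 hx.1.2.2 hu.1.2.1 hu.1.2.2 hv.1.2.1 hv.1.2.2
    have hcov : {w | w ∈ perp D a ∧ Commute w f ∧ Commute w g ∧ Commute w z ∧ Commute w x} ⊆
        insert z (insert x ({w | w ∈ N \ M ∧ Commute x w} ∪ {w | w ∈ M ∧ w ≠ x ∧ Commute x w})) := by
      rintro w ⟨h1, h2, h3, h4, h5⟩
      simp only [Set.mem_insert_iff, Set.mem_union, Set.mem_ofPred_eq]
      by_cases e1 : w = z
      · exact Or.inl e1
      by_cases e2 : w = x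
      · exact Or.inr (Or.inl e2)
      by_cases e3 : w ∈ M
      · exact Or.inr (Or.inr (Or.inr ⟨e3, e2, h5.symm⟩))
      · exact Or.inr (Or.inr (Or.inl ⟨⟨⟨⟨h1, h2, h3, h4⟩, e1⟩, e3⟩, h5.symm⟩))
    have := Set.ncard_le_ncard hcov (Set.toFinite _)
    have e1 := Set.ncard_insert_le z (insert x ({w | w ∈ N \ M ∧ Commute x w} ∪ {w | w ∈ M ∧ w ≠ x ∧ Commute x w}))
    have e2 := Set.ncard_insert_le x ({w | w ∈ N \ M ∧ Commute x w} ∪ {w | w ∈ M ∧ w ≠ x ∧ Commute x w})
    have e3 := Set.ncard_union_le {w | w ∈ N \ M ∧ Commute x w} {w | w ∈ M ∧ w ≠ x ∧ Commute x w}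
    omega
  have hbelow : ∀ w ∈ N \ M, ({x | x ∈ M ∧ Commute x w}).ncard ≤ 2 := by
    intro w hw
    by_contra hlt
    obtain ⟨x, ⟨hx, cx⟩, y, ⟨hy, cy⟩, v, ⟨hv, cv⟩, nxy, nxv, nyv⟩ :=
      (Set.two_lt_ncard_iff (Set.toFinite _)).1 (not_le.1 hlt) |> fun ⟨x, y, v, hx, hy, hv, h⟩ =>
        (⟨x, hx, y, hy, v, hv, h⟩ : ∃ x ∈ {x | x ∈ M ∧ Commute x w}, ∃ y ∈ {x | x ∈ M ∧ Commute x w},
          ∃ v ∈ {x | x ∈ M ∧ Commute x w}, x ≠ y ∧ x ≠ v ∧ y ≠ v)
    exact no_triple h ha hb hab hf.1 hg.1 hfg hx.1.1 hy.1.1 hv.1.1 nxy nxv nyv (htr y hy w hw.1 x hx cy cx)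
      (htr v hv w hw.1 x hx cv cx) (htr v hv w hw.1 y hy cv cy) hx.1.2.1 hx.1.2.2 hy.1.2.1 hy.1.2.2 hv.1.2.1
      hv.1.2.2
  have := count_le (fun x w => Commute x w) habove hbelow
  have e := Set.ncard_sdiff_add_ncard_of_subset hsub (Set.toFinite _)
  omega

theorem quad_le : (Quad D a b f g).ncard ≤ 18 := by
  set U := {z | z ∈ perp D a ∧ Commute z f ∧ Commute z g} with hU
  have hUc : U.ncard = 45 := h.ncard_pair ha hf.1 hg.1 hfg
  have hsub : Quad D a b f g ⊆ U := fun x hx => ⟨hx.1.1, hx.2.1, hx.2.2⟩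
  have habove : ∀ x ∈ Quad D a b f g, 9 ≤ ({z | z ∈ U \ Quad D a b f g ∧ Commute x z}).ncard := by
    intro x hx
    have h13 := count_thirteen h ha hf.1 hg.1 hfg hx.1.1 hx.2.1 hx.2.2
    have h3 := (quad_nbrs h ha hb hab hf hg hfg hx).1
    have hcov : {z | z ∈ perp D a ∧ Commute z f ∧ Commute z g ∧ Commute z x} ⊆
        insert x ({z | z ∈ U \ Quad D a b f g ∧ Commute x z} ∪ {y | y ∈ Quad D a b f g ∧ y ≠ x ∧ Commute y x}) := by
      rintro z ⟨h1, h2, h3, h4⟩
      simp only [Set.mem_insert_iff, Set.mem_union, Set.mem_ofPred_eq]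
      by_cases e1 : z = x
      · exact Or.inl e1
      by_cases e2 : z ∈ Quad D a b f g
      · exact Or.inr (Or.inr ⟨e2, e1, h4⟩)
      · exact Or.inr (Or.inl ⟨⟨⟨h1, h2, h3⟩, e2⟩, h4.symm⟩)
    have := Set.ncard_le_ncard hcov (Set.toFinite _)
    have e1 := Set.ncard_insert_le x
      ({z | z ∈ U \ Quad D a b f g ∧ Commute x z} ∪ {y | y ∈ Quad D a b f g ∧ y ≠ x ∧ Commute y x})
    have e3 := Set.ncard_union_le {z | z ∈ U \ Quad D a b f g ∧ Commute x z}
      {y | y ∈ Quad D a b f g ∧ y ≠ x ∧ Commute y x}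
    omega
  have hbelow : ∀ z ∈ U \ Quad D a b f g, ({x | x ∈ Quad D a b f g ∧ Commute x z}).ncard ≤ 6 :=
    fun z hz => quad_near h ha hb hab hf hg hfg hz.1.1 hz.1.2.1 hz.1.2.2 fun hc => hz.2
      ⟨⟨hz.1.1, hz.1.1.1, fun e => hab (e ▸ hz.1.1.2.2), hc.symm⟩, hz.1.2.1, hz.1.2.2⟩
  have := count_le (fun x z => Commute x z) habove hbelow
  have e := Set.ncard_sdiff_add_ncard_of_subset hsub (Set.toFinite _)
  omega

/-- Two noncommuting common neighbours have eighteen common neighbours among them. -/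
theorem quad_card : (Quad D a b f g).ncard = 18 := by
  set S := Common D a b with hS
  set s := {z | z ∈ S ∧ z ≠ f ∧ Commute z f} with hs
  set t := {z | z ∈ S ∧ ¬ Commute z f} with ht
  have hsc : s.ncard = 45 := degree h ha hb hab hf
  have htc : t.ncard = 80 := by
    have hu : S = insert f s ∪ t := by
      ext z
      simp only [hs, ht, Set.mem_union, Set.mem_insert_iff, Set.mem_ofPred_eq]
      constructor
      · intro hz
        by_cases e : z = f
        · exact Or.inl (Or.inl e)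
        by_cases c : Commute z f
        · exact Or.inl (Or.inr ⟨hz, e, c⟩)
        · exact Or.inr ⟨hz, c⟩
      · rintro ((rfl | ⟨hz, -⟩) | ⟨hz, -⟩) <;> assumption
    have hd : Disjoint (insert f s) t := by
      rw [Set.disjoint_left]
      rintro z (rfl | ⟨-, -, c⟩) ⟨-, hn⟩
      exacts [hn (Commute.refl z), hn c]
    have := Set.ncard_union_eq hd (Set.toFinite _) (Set.toFinite _)
    rw [← hu, hS, h.mu_eq ha hb hab, Set.ncard_insert_of_notMem (fun hh => hh.2.1 rfl) (Set.toFinite _), hsc] at this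
    omega
  have habove : ∀ x ∈ s, ({z | z ∈ t ∧ Commute x z}).ncard = 32 := by
    rintro x ⟨hx, hxf, cxf⟩
    obtain ⟨h1, h2⟩ := ends h ha hb hab hx
    have hfx : f ∈ perp D x := ⟨hf.1.1, hxf.symm, cxf⟩
    have hsub : {z | z ∈ perp D x ∧ Commute z a ∧ Commute z b ∧ Commute z f} ⊆
        {z | z ∈ perp D x ∧ Commute z a ∧ Commute z b} := fun z hz => ⟨hz.1, hz.2.1, hz.2.2.1⟩
    have e := Set.ncard_sdiff_add_ncard_of_subset hsub (Set.toFinite _)
    rw [h.ncard_pair hx.1.1 h1 h2 hab,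
      count_thirteen h hx.1.1 h1 h2 hab hfx hf.1.2.2.symm hf.2.2.2.symm] at e
    have heq : {z | z ∈ t ∧ Commute x z} = {z | z ∈ perp D x ∧ Commute z a ∧ Commute z b} \
        {z | z ∈ perp D x ∧ Commute z a ∧ Commute z b ∧ Commute z f} := by
      ext z
      constructor
      · rintro ⟨⟨hz, hn⟩, c⟩
        exact ⟨⟨⟨hz.1.1, fun e => hn (e ▸ cxf), c⟩, hz.1.2.2.symm, hz.2.2.2.symm⟩, fun hh => hn hh.2.2.2⟩
      · rintro ⟨⟨hz, hza, hzb⟩, hn⟩
        exact ⟨⟨mem_common h ha hb hab hz hza hzb, fun c => hn ⟨hz, hza, hzb, c⟩⟩, hz.2.2⟩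
    rw [heq]
    omega
  have hbelow : ∀ z ∈ t, ({x | x ∈ s ∧ Commute x z}).ncard ≤ 18 := by
    rintro z ⟨hz, hn⟩
    refine le_trans (Set.ncard_le_ncard ?_ (Set.toFinite _))
      (quad_le h ha hb hab hf hz fun c => hn c.symm)
    rintro x ⟨⟨hx, -, c⟩, c'⟩
    exact ⟨hx, c, c'⟩
  have hgt : g ∈ t := ⟨hg, fun c => hfg c.symm⟩
  have e18 := count_tight (fun x z => Commute x z) habove hbelow (by rw [hsc, htc]) hgt
  refine le_antisymm (quad_le h ha hb hab hf hg hfg) (e18 ▸ Set.ncard_le_ncard ?_ (Set.toFinite _))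
  rintro x ⟨⟨hx, -, c⟩, c'⟩
  exact ⟨hx, c, c'⟩

end Cfsg.Lib.ThreeTr.Y332
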