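import Cfsg.Agent.ThreeTransposition.Y332.WordData
import Mathlib.Data.ZMod.Basic

/-!
The relations among the words, checked.
-/

set_option autoImplicit false
set_option Elab.async false

namespace Cfsg.Lib.ThreeTr.Y332

/-- The six letters of the finite diagram. -/
def letter6 : Fin 6 → ℕ := ![2, 3, 4, 5, 7, 8]

/-- The root as a word. -/
def rootWord : List ℕ := rootConj ++ [rootMid] ++ rootConj.reverse

/-- The six translations as words. -/
def transWord (k : Fin 6) : List ℕ := transConj.getD k.val [] ++ (rootWord ++ [1]) ++ (transConj.getD k.val []).reverse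

/-- The word of a letter acting on a translation. -/
def imageWord (s k : Fin 6) : List ℕ :=
  if s = k then (transWord k).reverse else if adjN (letter6 s) (letter6 k) then transWord k ++ transWord s
  else transWord k

/-- The translation of the power of the long element. -/
def sigmaImage : List ℕ :=
  rep 3 (transWord 0) ++ rep 3 (transWord 1) ++ transWord 2 ++ (transWord 3).reverse ++ (transWord 4).reverse ++
    rep 2 (transWord 5).reverse
where rep (n : ℕ) (w : List ℕ) : List ℕ := (List.replicate n w).flatten

/-- The long element. -/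
def sigmaWord : List ℕ := [3, 2, 1, 3, 4, 5, 3, 7, 8]

/-- The word of the first long element. -/
def longWord₁ : List ℕ := [0, 1, 2, 3, 4, 5, 7]

/-- The word of the second long element. -/
def longWord₂ : List ℕ := [1, 2, 3, 4, 5, 6, 7]

/-- A power of a word. -/
def powWord (n : ℕ) (w : List ℕ) : List ℕ := (List.replicate n w).flatten

/-- A pairing in the finite diagram modulo three. -/
def cartan (s k : Fin 6) : ZMod 3 := if s = k then 2 else if adjN (letter6 s) (letter6 k) then -1 else 0

/-- A reflection modulo three. -/
def refl6 (s : Fin 6) (x : Fin 6 → ZMod 3) : Fin 6 → ZMod 3 := fun j =>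
  if j = s then x j - (cartan s 0 * x 0 + cartan s 1 * x 1 + cartan s 2 * x 2 + cartan s 3 * x 3 + cartan s 4 * x 4 +
    cartan s 5 * x 5) else x j

/-- A word acting modulo three. -/
def act6 (w : List (Fin 6)) (x : Fin 6 → ZMod 3) : Fin 6 → ZMod 3 := w.foldr refl6 x

/-- The member with a given number as a word. -/
def sylowWord (j : Fin 81) : List (Fin 6) := ((sylowSeq.getD j.val []).map sylowGen).flatten

/-- The images of the unit vectors under a member. -/
def sylowImg (j : Fin 81) : List (ZMod 3) :=
  (List.finRange 6).flatMap fun k => (List.finRange 6).map fun i => act6 (sylowWord j) (Pi.single k 1) i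

theorem conj_ok : ∀ s k : Fin 6, kills (conjCert.getD (6 * s.val + k.val) (0, 0))
    ([letter6 s] ++ transWord k ++ [letter6 s] ++ (imageWord s k).reverse) = true := by decide +kernel

/-- The number of a pair of translations. -/
def pairIdx (k l : Fin 6) : ℕ := ((List.range k.val).map fun i => 5 - i).sum + (l.val - k.val - 1)

theorem comm_ok : ∀ k l : Fin 6, k < l → kills (commCert.getD (pairIdx k l) (0, 0))
    (transWord k ++ transWord l ++ (transWord k).reverse ++ (transWord l).reverse) = true := by decide +kernel

theorem root_ok : ∀ i : Fin 6, kills (rootCert.getD i.val (0, 0))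
    (rootWord ++ [([0, 3, 4, 5, 7, 8] : List ℕ).getD i.val 0] ++ rootWord ++
      [([0, 3, 4, 5, 7, 8] : List ℕ).getD i.val 0]) = true := by decide +kernel

theorem sigma_ok : kills (sigmaCert.getD 0 (0, 0)) (powWord 10 sigmaWord ++ sigmaImage.reverse) = true := by
  decide +kernel

theorem long₁_ok : (∀ i : Fin 7, kills (longCert₁.getD i.val (0, 0))
    ([longWord₁.getD i.val 0] ++ powWord 9 longWord₁ ++ [longWord₁.getD i.val 0] ++
      (powWord 9 longWord₁).reverse) = true) ∧
    kills (longCert₁.getD 7 (0, 0)) (powWord 9 longWord₁ ++ powWord 9 longWord₁) = true := by decide +kernel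

theorem long₂_ok : (∀ i : Fin 7, kills (longCert₂.getD i.val (0, 0))
    ([longWord₂.getD i.val 0] ++ powWord 9 longWord₂ ++ [longWord₂.getD i.val 0] ++
      (powWord 9 longWord₂).reverse) = true) ∧
    kills (longCert₂.getD 7 (0, 0)) (powWord 9 longWord₂ ++ powWord 9 longWord₂) = true := by decide +kernel

theorem sylow_inj : ((List.finRange 81).map sylowImg).Nodup := by decide +kernel

theorem sylow_mul : ∀ (j : Fin 81) (g : Fin 4) (k : Fin 6),
    act6 (sylowWord j) (act6 (sylowGen g) (Pi.single k 1)) =
      act6 (sylowWord ((sylowMul.getD j.val []).getD g.val 0)) (Pi.single k 1) := by decide +kernel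

/-- Vectors orthogonal to everything are multiples of one. -/
theorem radical_ok : ∀ a b c d e f : ZMod 3, (∀ s : Fin 6, refl6 s ![a, b, c, d, e, f] = ![a, b, c, d, e, f]) →
    ![a, b, c, d, e, f] = 0 ∨ ![a, b, c, d, e, f] = ![0, 0, 1, 2, 2, 1] ∨
      ![a, b, c, d, e, f] = ![0, 0, 2, 1, 1, 2] := by decide +kernel

end Cfsg.Lib.ThreeTr.Y332
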