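import Cfsg.Agent.ThreeTransposition.M22Count.Local
import Cfsg.Agent.ThreeTransposition.M22Count.SixCounts

/-!
Further counts in the neighbourhood of a member of a class of type M(22): common neighbours of a noncommuting
pair and of further members commuting with both.
-/

set_option autoImplicit false
set_option linter.unusedSectionVars false
set_option linter.style.haveILetI false

namespace Cfsg.Lib.ThreeTr.Y332

open Cfsg Subgroup Cfsg.Lib.Classical Cfsg.Lib.TTUnitary

universe u v

section Space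

variable {F : Type u} [Field F] [Finite F] {V : Type v} [AddCommGroup V] [Module F V] {H : HermSpace F V}
  (hS : IsSixSpace H)
include hS

/-- Two orthogonal isotropic vectors of a nondegenerate plane are proportional. -/
theorem line_of_orth {U : Submodule F V} (hU : H.NondegOn U) (hd : Module.finrank F U = 2) {a b : V} (ha : a ∈ U)
    (hb : b ∈ U) (ha0 : a ≠ 0) (haa : H.h a a = 0) (hab : H.h b a = 0) : ∃ t : F, b = t • a := by
  haveI := hS.fd
  obtain ⟨d, p⟩ := exists_pair hU ha ha0 haa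
  have hq := hS.toFour
  have h0 : perp2 H U a d = ⊥ := Submodule.finrank_eq_zero.1 (by have := p.finrank hq; omega)
  have h1 := p.proj_mem hq hb
  rw [h0, Submodule.mem_bot, hab, zero_smul, add_zero] at h1
  exact ⟨_, hq.eq_of_vadd h1⟩

/-- In a nondegenerate four-space a vector orthogonal to a totally isotropic line and itself lies on it. -/
theorem mem_line {U : Submodule F V} (hU : H.NondegOn U) (hd : Module.finrank F U = 4) {a b c : V} (ha : a ∈ U)
    (hb : b ∈ U) (hc : c ∈ U) (ha0 : a ≠ 0) (haa : H.h a a = 0) (hbb : H.h b b = 0)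
    (hab : H.h b a = 0) (hac : H.h c a = 0) (hbc : H.h c b = 0) (hne : ∀ t : F, b ≠ t • a) :
    ∃ s t : F, c = s • a + t • b := by
  haveI := hS.fd
  have hq := hS.toFour
  obtain ⟨d, p⟩ := exists_pair hU ha ha0 haa
  have hd' : Module.finrank F (perp2 H U a d) = 2 := by have := p.finrank hq; omega
  have hb' := p.proj_mem hq hb
  have hc' := p.proj_mem hq hc
  rw [hab, zero_smul, add_zero] at hb'
  rw [hac, zero_smul, add_zero] at hc'
  have hb0 : b + H.h b d • a ≠ 0 := fun e => hne _ (hq.eq_of_vadd e)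
  have hbb' : H.h (b + H.h b d • a) (b + H.h b d • a) = 0 := by
    simp only [H.add_left, H.add_right, H.smul_left, H.smul_right, hbb, haa, hab, H.eq_zero_symm hab, mul_zero,
      add_zero]
  have hcb' : H.h (c + H.h c d • a) (b + H.h b d • a) = 0 := by
    simp only [H.add_left, H.add_right, H.smul_left, H.smul_right, haa, hac, hbc, H.eq_zero_symm hab, mul_zero,
      add_zero]
  obtain ⟨t, ht⟩ := line_of_orth hS (p.nondeg hq hU) hd' hb' hc' hb0 hbb' hcb'
  refine ⟨t * H.h b d + H.h c d, t, ?_⟩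
  have e : c = t • (b + H.h b d • a) + H.h c d • a := by rw [← ht, hq.vadd_cancel]
  generalize H.h c d = μ at e ⊢
  rw [e, smul_add, smul_smul, add_smul]
  abel

/-- A nondegenerate plane has ten isotropic vectors. -/
theorem iso_plane (h4 : Nat.card F = 4) {U : Submodule F V} (hU : H.NondegOn U) (hd : Module.finrank F U = 2) :
    ({v : V | v ∈ U ∧ H.h v v = 0}).ncard = 10 := by
  have h := hS.iso_card h4 hU (by omega)
  rw [hd] at h
  norm_num at h
  omega

/-- Isotropic vectors of a nondegenerate four-space orthogonal to two spanning an isotropic line. -/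
theorem iso_line (h4 : Nat.card F = 4) {U : Submodule F V} (hU : H.NondegOn U) (hd : Module.finrank F U = 4)
    {a b : V} (ha : a ∈ U) (hb : b ∈ U) (ha0 : a ≠ 0) (haa : H.h a a = 0) (hbb : H.h b b = 0) (hab : H.h b a = 0)
    (hne : ∀ t : F, b ≠ t • a) :
    ({v : V | v ∈ U ∧ H.h v v = 0 ∧ H.h v a = 0 ∧ H.h v b = 0}).ncard = 16 := by
  haveI := hS.fd
  haveI : Finite V := Module.finite_of_finite F
  have hq := hS.toFour
  obtain ⟨d, p⟩ := exists_pair hU ha ha0 haa
  rw [hS.perp_split h4 p (fun v => H.h v b = 0) fun t w => by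
    rw [H.add_left, H.smul_left, H.eq_zero_symm hab, mul_zero, zero_add]]
  have hd' : Module.finrank F (perp2 H U a d) = 2 := by have := p.finrank hq; omega
  have hb' := p.proj_mem hq hb
  rw [hab, zero_smul, add_zero] at hb'
  set b' := b + H.h b d • a with hb'def
  have hb0 : b' ≠ 0 := fun e => hne _ (hq.eq_of_vadd e)
  have hbb' : H.h b' b' = 0 := by
    simp only [hb'def, H.add_left, H.add_right, H.smul_left, H.smul_right, hbb, haa, hab, H.eq_zero_symm hab,
      mul_zero, add_zero]
  have hnd := p.nondeg hq hU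
  obtain ⟨d', p'⟩ := exists_pair hnd hb' hb0 hbb'
  have h0 : perp2 H (perp2 H U a d) b' d' = ⊥ :=
    Submodule.finrank_eq_zero.1 (by have := p'.finrank hq; omega)
  have h1 := hS.perp_split h4 p' (fun _ => True) fun _ _ => Iff.rfl
  have e0 : {w : V | w ∈ perp2 H (perp2 H U a d) b' d' ∧ H.h w w = 0 ∧ True} = {0} := by
    rw [h0]
    ext w
    simp only [Submodule.mem_bot, and_true, Set.mem_ofPred_eq, Set.mem_singleton_iff]
    exact ⟨fun h => h.1, fun h => ⟨h, by rw [h, H.zero_left]⟩⟩
  rw [e0, Set.ncard_singleton] at h1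
  have e : {w : V | w ∈ perp2 H U a d ∧ H.h w w = 0 ∧ H.h w b = 0} =
      {v : V | v ∈ perp2 H U a d ∧ H.h v v = 0 ∧ H.h v b' = 0 ∧ True} := by
    ext w
    simp only [Set.mem_ofPred_eq, and_true]
    refine and_congr_right fun h2 => and_congr_right fun _ => ?_
    rw [hb'def, H.add_right, H.smul_right, (mem_perp2.mp h2).2.1, mul_zero, add_zero]
  rw [e, h1]

end Space

section Model

variable {G : Type u} [Group G] [Finite G] {D : Set G} (h : M22 D) {p : G} (hp : p ∈ D) {x y : G}
  (hx : x ∈ perp D p) (hy : y ∈ perp D p) (hxy : ¬ Commute x y)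
include h hp hx hy hxy

/-- The members commuting with a noncommuting pair, as the isotropic points of a nondegenerate four-space. -/
theorem pair_space : ∃ (F : Type) (_ : Field F) (_ : Fintype F) (H : HermSpace F (Fin 6 → F))
    (π : H.SIsom →* ↥(closure (perp D p)) ⧸ center ↥(closure (perp D p))) (vec : G → (Fin 6 → F))
    (W : Submodule F (Fin 6 → F)), IsModel D p H π vec ∧ H.NondegOn W ∧ Module.finrank F W = 4 ∧
      (∀ z ∈ perp D p, vec z ∈ W ↔ Commute z x ∧ Commute z y) ∧
      ∃ (b : Fin 6 → F) (t : F), t ≠ 0 ∧ b = t • vec y ∧ Pair H ⊤ (vec x) b ∧ W = perp2 H ⊤ (vec x) b := by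
  obtain ⟨F, iF, iT, H, π, vec, hM⟩ := h.exists_model hp
  have hS := hM.six
  haveI := hS.fd
  have hq := hS.toFour
  obtain ⟨t, ht⟩ : ∃ t, t = H.h (vec x) (vec y) := ⟨_, rfl⟩
  have he : t ≠ 0 := fun e => hxy ((hM.comm_iff h hp hx hy).2 (ht ▸ e))
  obtain ⟨b, hb⟩ : ∃ b, b = t • vec y := ⟨_, rfl⟩
  have q : Pair H ⊤ (vec x) b := ⟨Submodule.mem_top, Submodule.mem_top,
    hM.vec_iso x hx, by rw [hb, hq.h_smul_smul he, hM.vec_iso y hy], by rw [hb, H.smul_right, ← ht, hq.norm_flip he]⟩
  refine ⟨F, iF, iT, H, π, vec, perp2 H ⊤ (vec x) b, hM, q.nondeg hq hS.nondegOn_top, ?_, ?_, b, t, he, hb, q, rfl⟩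
  · have := q.finrank hq
    rw [hS.finrank_top_eq] at this
    omega
  · intro z hz
    rw [mem_perp2, hM.comm_iff h hp hz hx, hM.comm_iff h hp hz hy, hb, H.smul_right, mul_eq_zero,
      or_iff_right (fun e => he (H.conj.eq_zero.mp e))]
    exact ⟨fun k => k.2, fun k => ⟨Submodule.mem_top, k⟩⟩

/-- Thirteen members commute with a pair and with one of their common neighbours. -/
theorem count_thirteen {w : G} (hw : w ∈ perp D p) (hwx : Commute w x) (hwy : Commute w y) :
    ({z : G | z ∈ perp D p ∧ Commute z x ∧ Commute z y ∧ Commute z w}).ncard = 13 := by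
  obtain ⟨F, _, _, H, π, vec, W, hM, hnd, hd, hW, -⟩ := pair_space h hp hx hy hxy
  have hS := hM.six
  haveI := hS.fd
  have := hM.card_points h hp (fun v => v ∈ W ∧ H.h v (vec w) = 0)
    (fun c v hc => by rw [W.smul_mem_iff hc, H.smul_left, mul_eq_zero, or_iff_right hc])
    ⟨W.zero_mem, H.zero_left _⟩
  have hwW := (hW w hw).2 ⟨hwx, hwy⟩
  obtain ⟨d, q⟩ := exists_pair hnd hwW (hM.vec_ne w hw) (hM.vec_iso w hw)
  have h2 := hS.perp_split hM.four q (fun _ => True) fun _ _ => Iff.rfl
  simp only [and_true] at h2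
  rw [iso_plane hS hM.four (q.nondeg hS.toFour hnd) (by have := q.finrank hS.toFour; omega),
    show {v | v ∈ W ∧ H.h v v = 0 ∧ H.h v (vec w) = 0} = {v | H.h v v = 0 ∧ v ∈ W ∧ H.h v (vec w) = 0} from
      Set.ext fun v => and_left_comm] at h2
  rw [h2, show {z : G | z ∈ perp D p ∧ vec z ∈ W ∧ H.h (vec z) (vec w) = 0} =
      {z : G | z ∈ perp D p ∧ Commute z x ∧ Commute z y ∧ Commute z w} from
    Set.ext fun z => and_congr_right fun hz => by rw [hW z hz, ← hM.comm_iff h hp hz hw, and_assoc]] at this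
  omega

/-- Three pairwise noncommuting members commute with two orthogonal noncommuting pairs. -/
theorem count_three {u v : G} (hu : u ∈ perp D p) (hv : v ∈ perp D p) (huv : ¬ Commute u v) (hux : Commute u x)
    (huy : Commute u y) (hvx : Commute v x) (hvy : Commute v y) :
    ({z : G | z ∈ perp D p ∧ Commute z x ∧ Commute z y ∧ Commute z u ∧ Commute z v}).ncard = 3 ∧
      ∀ z ∈ perp D p, ∀ z' ∈ perp D p, Commute z x → Commute z y → Commute z u → Commute z v →
        Commute z' x → Commute z' y → Commute z' u → Commute z' v → Commute z z' → z' = z := by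
  obtain ⟨F, _, _, H, π, vec, W, hM, hnd, hd, hW, -⟩ := pair_space h hp hx hy hxy
  have hS := hM.six
  haveI := hS.fd
  have hq := hS.toFour
  have he : H.h (vec u) (vec v) ≠ 0 := fun e => huv ((hM.comm_iff h hp hu hv).2 e)
  have q : Pair H W (vec u) (H.h (vec u) (vec v) • vec v) := ⟨(hW u hu).2 ⟨hux, huy⟩,
    W.smul_mem _ ((hW v hv).2 ⟨hvx, hvy⟩), hM.vec_iso u hu, by rw [hq.h_smul_smul he, hM.vec_iso v hv],
    by rw [H.smul_right, hq.norm_flip he]⟩
  have hnd' := q.nondeg hq hnd
  have hd' : Module.finrank F (perp2 H W (vec u) (H.h (vec u) (vec v) • vec v)) = 2 := by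
    have := q.finrank hq; omega
  have hW' : ∀ z ∈ perp D p, vec z ∈ perp2 H W (vec u) (H.h (vec u) (vec v) • vec v) ↔
      Commute z x ∧ Commute z y ∧ Commute z u ∧ Commute z v := fun z hz => by
    rw [mem_perp2, hW z hz, hM.comm_iff h hp hz hu, hM.comm_iff h hp hz hv, H.smul_right, mul_eq_zero,
      or_iff_right (fun e => he (H.conj.eq_zero.mp e)), and_assoc]
  refine ⟨?_, fun z hz z' hz' h1 h2 h3 h4 h1' h2' h3' h4' hc => ?_⟩
  · have := hM.card_points h hp (fun w => w ∈ perp2 H W (vec u) (H.h (vec u) (vec v) • vec v))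
      (fun c w hc => Submodule.smul_mem_iff _ hc) (Submodule.zero_mem _)
    rw [show {w | H.h w w = 0 ∧ w ∈ perp2 H W (vec u) (H.h (vec u) (vec v) • vec v)} =
        {w | w ∈ perp2 H W (vec u) (H.h (vec u) (vec v) • vec v) ∧ H.h w w = 0} from Set.ext fun w => and_comm,
      iso_plane hS hM.four hnd' hd', show {z : G | z ∈ perp D p ∧ vec z ∈
          perp2 H W (vec u) (H.h (vec u) (vec v) • vec v)} =
        {z : G | z ∈ perp D p ∧ Commute z x ∧ Commute z y ∧ Commute z u ∧ Commute z v} from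
      Set.ext fun z => and_congr_right fun hz => hW' z hz] at this
    omega
  · obtain ⟨t, ht⟩ := line_of_orth hS hnd' hd' ((hW' z hz).2 ⟨h1, h2, h3, h4⟩) ((hW' z' hz').2 ⟨h1', h2', h3', h4'⟩)
      (hM.vec_ne z hz) (hM.vec_iso z hz) ((hM.comm_iff h hp hz' hz).1 hc.symm)
    exact hM.eq_of_prop h hp hz' hz ht

/-- Five members commute with a pair and with two commuting common neighbours. -/
theorem count_five {u v : G} (hu : u ∈ perp D p) (hv : v ∈ perp D p) (hne : u ≠ v) (huv : Commute u v)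
    (hux : Commute u x) (huy : Commute u y) (hvx : Commute v x) (hvy : Commute v y) :
    ({z : G | z ∈ perp D p ∧ Commute z x ∧ Commute z y ∧ Commute z u ∧ Commute z v}).ncard = 5 := by
  obtain ⟨F, _, _, H, π, vec, W, hM, hnd, hd, hW, -⟩ := pair_space h hp hx hy hxy
  have hS := hM.six
  have := hM.card_points h hp (fun w => w ∈ W ∧ H.h w (vec u) = 0 ∧ H.h w (vec v) = 0)
    (fun c w hc => by rw [W.smul_mem_iff hc, H.smul_left, mul_eq_zero, or_iff_right hc, H.smul_left, mul_eq_zero,
      or_iff_right hc])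
    ⟨W.zero_mem, H.zero_left _, H.zero_left _⟩
  rw [show {w | H.h w w = 0 ∧ w ∈ W ∧ H.h w (vec u) = 0 ∧ H.h w (vec v) = 0} =
      {w | w ∈ W ∧ H.h w w = 0 ∧ H.h w (vec u) = 0 ∧ H.h w (vec v) = 0} from Set.ext fun w => and_left_comm,
    iso_line hS hM.four hnd hd ((hW u hu).2 ⟨hux, huy⟩) ((hW v hv).2 ⟨hvx, hvy⟩) (hM.vec_ne u hu)
      (hM.vec_iso u hu) (hM.vec_iso v hv) ((hM.comm_iff h hp hv hu).1 huv.symm)
      (fun t ht => hne (hM.eq_of_prop h hp hv hu ht).symm),
    show {z : G | z ∈ perp D p ∧ vec z ∈ W ∧ H.h (vec z) (vec u) = 0 ∧ H.h (vec z) (vec v) = 0} =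
      {z : G | z ∈ perp D p ∧ Commute z x ∧ Commute z y ∧ Commute z u ∧ Commute z v} from
    Set.ext fun z => and_congr_right fun hz => by
      rw [hW z hz, ← hM.comm_iff h hp hz hu, ← hM.comm_iff h hp hz hv, and_assoc]] at this
  omega

/-- Three pairwise commuting common neighbours of a pair lie in one hexad with the member. -/
theorem collinear {u v w : G} (hu : u ∈ perp D p) (hv : v ∈ perp D p) (hw : w ∈ perp D p) (hne : u ≠ v)
    (huv : Commute u v) (huw : Commute u w) (hvw : Commute v w) (hux : Commute u x) (huy : Commute u y)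
    (hvx : Commute v x) (hvy : Commute v y) (hwx : Commute w x) (hwy : Commute w y) {e : G} (he : e ∈ D)
    (hep : Commute e p) (heu : Commute e u) (hev : Commute e v) : Commute e w := by
  obtain ⟨F, _, _, H, π, vec, W, hM, hnd, hd, hW, -⟩ := pair_space h hp hx hy hxy
  by_cases hep' : e = p
  · subst hep'; exact hw.2.2
  have he' : e ∈ perp D p := ⟨he, hep', hep.symm⟩
  obtain ⟨s, t, hst⟩ := mem_line hM.six hnd hd ((hW u hu).2 ⟨hux, huy⟩) ((hW v hv).2 ⟨hvx, hvy⟩)
    ((hW w hw).2 ⟨hwx, hwy⟩) (hM.vec_ne u hu) (hM.vec_iso u hu) (hM.vec_iso v hv)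
    ((hM.comm_iff h hp hv hu).1 huv.symm) ((hM.comm_iff h hp hw hu).1 huw.symm)
    ((hM.comm_iff h hp hw hv).1 hvw.symm) (fun t ht => hne (hM.eq_of_prop h hp hv hu ht).symm)
  refine (hM.comm_iff h hp he' hw).2 ?_
  rw [hst, H.add_right, H.smul_right, H.smul_right, (hM.comm_iff h hp he' hu).1 heu,
    (hM.comm_iff h hp he' hv).1 hev, mul_zero, mul_zero, add_zero]

end Model

variable {G : Type u} [Group G] [Finite G] {D : Set G}

/-- Two members commuting with three pairwise commuting ones, the third of which is not forced by the first two,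
commute. -/
theorem plane_commute (h : M22 D) {p : G} (hp : p ∈ D) {g k c w a z : G} (hg : g ∈ perp D p) (hk : k ∈ perp D p)
    (hc : c ∈ perp D p) (hw : w ∈ perp D p) (ha : a ∈ perp D p) (hz : z ∈ perp D p) (hgk : g ≠ k)
    (cgk : Commute g k) (cgc : Commute g c) (ckc : Commute k c) (hwg : Commute w g) (hwk : Commute w k)
    (hwc : ¬ Commute w c) (hag : Commute a g) (hak : Commute a k) (hac : Commute a c) (hzg : Commute z g)
    (hzk : Commute z k) (hzc : Commute z c) : Commute z a := by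
  obtain ⟨F, _, _, H, π, vec, W, hM, hnd, hd, hW, b, t, ht, hb, q, hWeq⟩ :=
    pair_space h hp hc hw fun e => hwc e.symm
  have hS := hM.six
  have hq := hS.toFour
  have o := fun {s r : G} (hs : s ∈ perp D p) (hr : r ∈ perp D p) (hsr : Commute s r) =>
    (hM.comm_iff h hp hs hr).1 hsr
  have ha' := q.proj_mem hq (x := vec a) Submodule.mem_top
  rw [← hWeq, o ha hc hac, zero_smul, add_zero] at ha'
  obtain ⟨s, r, hsr⟩ := mem_line hS hnd hd ((hW g hg).2 ⟨cgc, hwg.symm⟩) ((hW k hk).2 ⟨ckc, hwk.symm⟩) ha'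
    (hM.vec_ne g hg) (hM.vec_iso g hg) (hM.vec_iso k hk) (o hk hg cgk.symm)
    (by rw [H.add_left, H.smul_left, o ha hg hag, o hc hg cgc.symm, mul_zero, add_zero])
    (by rw [H.add_left, H.smul_left, o ha hk hak, o hc hk ckc.symm, mul_zero, add_zero])
    (fun t ht => hgk (hM.eq_of_prop h hp hk hg ht).symm)
  refine (hM.comm_iff h hp hz ha).2 ?_
  rw [← hq.vadd_cancel (vec a) (H.h (vec a) b • vec c), hsr, H.add_right, H.add_right, H.smul_right, H.smul_right,
    H.smul_right, o hz hg hzg, o hz hk hzk, o hz hc hzc, mul_zero, mul_zero, mul_zero, add_zero, add_zero]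

end Cfsg.Lib.ThreeTr.Y332
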