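import Cfsg.Agent.ThreeTransposition.Y332.Hyperoval

/-!
No chain of four common neighbours of two noncommuting members commutes with two noncommuting ones.
-/

set_option autoImplicit false
set_option linter.unusedSectionVars false
set_option linter.style.haveILetI false

namespace Cfsg.Lib.ThreeTr.Y332

open Cfsg Subgroup

universe u

/-- The adjacent transpositions of five letters, acting on the ten pairs. -/
def pairAct : Fin 4 → Fin 10 → Fin 10 :=
  ![![0, 4, 5, 6, 1, 2, 3, 7, 8, 9], ![1, 0, 2, 3, 4, 7, 8, 5, 6, 9], ![0, 2, 1, 3, 5, 4, 6, 7, 9, 8],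
    ![0, 1, 3, 2, 4, 6, 5, 8, 7, 9]]

/-- The ten pairs. -/
def pairOf : Fin 10 → Fin 5 × Fin 5 :=
  ![(0, 1), (0, 2), (0, 3), (0, 4), (1, 2), (1, 3), (1, 4), (2, 3), (2, 4), (3, 4)]

/-- Two pairs are disjoint. -/
def disj (p q : Fin 10) : Bool :=
  decide ((pairOf p).1 ≠ (pairOf q).1 ∧ (pairOf p).1 ≠ (pairOf q).2 ∧ (pairOf p).2 ≠ (pairOf q).1 ∧
    (pairOf p).2 ≠ (pairOf q).2)

/-- A word moving the standard pair of pairs to a given one. -/
def reach : List (List (Fin 4)) :=
  [[], [0], [2, 0], [3, 2, 0], [],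
    [2], [3, 2], [], [3], [2, 3],
    [1, 0], [], [1, 2, 0], [3, 1, 2, 0], [1],
    [1], [3, 1], [1, 2], [3, 1, 2], [1, 2, 3],
    [2, 1, 0], [1, 2, 1, 0], [], [2, 3, 1, 2, 0], [2, 1],
    [2, 1], [2, 3, 1], [1, 2, 1], [1, 2, 3, 1], [2, 3, 1, 2],
    [3, 2, 1, 0], [3, 1, 2, 1, 0], [2, 3, 1, 2, 1, 0], [], [3, 2, 1],
    [2, 3, 2, 1], [3, 2, 1], [1, 2, 3, 2, 1], [3, 1, 2, 1], [2, 3, 1, 2, 1],
    [0, 1, 0], [0, 1], [0, 1], [3, 0, 1], [],
    [0, 1, 2, 0], [3, 0, 1, 2, 0], [0, 1, 2], [3, 0, 1, 2], [0, 1, 2, 3],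
    [2, 0, 1, 0], [2, 0, 1], [2, 0, 1], [2, 3, 0, 1], [0, 1, 2, 1, 0],
    [], [2, 3, 0, 1, 2, 0], [0, 1, 2, 1], [0, 1, 2, 3, 1], [2, 3, 0, 1, 2],
    [3, 2, 0, 1, 0], [3, 2, 0, 1], [2, 3, 2, 0, 1], [3, 2, 0, 1], [3, 0, 1, 2, 1, 0],
    [2, 3, 0, 1, 2, 1, 0], [], [0, 1, 2, 3, 2, 1], [3, 0, 1, 2, 1], [2, 3, 0, 1, 2, 1],
    [1, 2, 0, 1], [1, 2, 0, 1, 0], [1, 2, 0, 1], [1, 2, 3, 0, 1], [0, 1, 2, 0, 1, 0],
    [0, 1, 2, 0, 1], [0, 1, 2, 3, 0, 1], [], [1, 2, 3, 0, 1, 2, 0], [1, 2, 3, 0, 1, 2],
    [3, 1, 2, 0, 1], [3, 1, 2, 0, 1, 0], [1, 2, 3, 2, 0, 1], [3, 1, 2, 0, 1], [3, 0, 1, 2, 0, 1, 0],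
    [0, 1, 2, 3, 2, 0, 1], [3, 0, 1, 2, 0, 1], [1, 2, 3, 0, 1, 2, 1, 0], [], [1, 2, 3, 0, 1, 2, 1],
    [2, 3, 1, 2, 0, 1], [1, 2, 3, 1, 2, 0, 1], [2, 3, 1, 2, 0, 1, 0], [2, 3, 1, 2, 0, 1], [0, 1, 2, 3, 1, 2, 0, 1],
    [2, 3, 0, 1, 2, 0, 1, 0], [2, 3, 0, 1, 2, 0, 1], [1, 2, 3, 0, 1, 2, 0, 1, 0], [1, 2, 3, 0, 1, 2, 0, 1], []]

/-- A word, acting. -/
def actW (w : List (Fin 4)) (p : Fin 10) : Fin 10 := w.foldr pairAct p

theorem reach_ok : ∀ p q : Fin 10, p ≠ q →
    actW (reach.getD (10 * p.val + q.val) []) 0 = p ∧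
      actW (reach.getD (10 * p.val + q.val) []) (if disj p q then 7 else 4) = q := by
  decide +kernel

theorem disj_self : ∀ p : Fin 10, disj p p = false := by decide +kernel

theorem petersen : (∀ p q : Fin 10, p ≠ q → disj p q = false → ∃ r : Fin 10, disj r p = true ∧ disj r q = true) ∧
    (∀ p q : Fin 10, p ≠ q → ∃ r : Fin 10, disj p r = true ∧ (disj q r = false ∧ r ≠ q)) ∧
    (∀ p : Fin 10, ∃ q r s : Fin 10, q ≠ r ∧ q ≠ s ∧ r ≠ s ∧ disj p q = true ∧ disj p r = true ∧ disj p s = true) := by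
  decide +kernel

variable {G : Type u} [Group G] [Finite G] {D : Set G} (h : M22 D) {a b : G} (ha : a ∈ D) (hb : b ∈ D)
  (hab : ¬ Commute a b)
include h ha hb hab

/-- No chain of four commuting with a noncommuting pair among the common neighbours. -/
theorem no_chain {f g e d k i : G} (hf : f ∈ Common D a b) (hg : g ∈ Common D a b) (hfg : ¬ Commute f g)
    (he : e ∈ Quad D a b f g) (hd : d ∈ Quad D a b f g) (hk : k ∈ Quad D a b f g) (hi : i ∈ Quad D a b f g)
    (ned : ¬ Commute e d) (ndk : ¬ Commute d k) (nki : ¬ Commute k i) (cek : Commute e k) (cei : Commute e i)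
    (cdi : Commute d i) : False := by
  set X := Quad D a b f g with hX
  have hE := h.cls.1
  have hDX : ∀ {x : G}, x ∈ X → x ∈ D := fun hx => hx.1.1.1
  have sq : ∀ {x : G}, x ∈ X → x * x = 1 := fun hx => sq_eq_one hE (hDX hx)
  have cl : ∀ {x y : G}, x ∈ X → y ∈ X → x * y * x ∈ X := fun {x y} hx hy =>
    ⟨conj_closed h ha hb hab hx.1 hy.1, (hx.2.1.mul_left hy.2.1).mul_left hx.2.1,
      (hx.2.2.mul_left hy.2.2).mul_left hx.2.2⟩
  -- conjugation by a member
  have fx : ∀ {s x : G}, s ∈ X → Commute s x → s * x * s = x := fun {s x} hs c => by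
    rw [c.eq, mul_assoc, sq hs, mul_one]
  have cc : ∀ {s x y : G}, s ∈ X → Commute x y → Commute (s * x * s) (s * y * s) := fun {s x y} hs c => by
    have hsi : s⁻¹ = s := inv_eq hE (hDX hs)
    have := (conj_commute_iff s x y).2 c
    rwa [hsi] at this
  have back : ∀ {s x y : G}, s ∈ X → s * x * s = y → s * y * s = x := fun {s x y} hs e => by
    rw [← e]
    calc s * (s * x * s) * s = (s * s) * x * (s * s) := by simp only [mul_assoc]
      _ = x := by rw [sq hs, one_mul, mul_one]
  have br : ∀ {x y : G}, x ∈ X → y ∈ X → ¬ Commute x y → x * y * x = y * x * y :=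
    fun hx hy n => braid hE (hDX hx) (hDX hy) n
  -- the ten
  set k13 := k * i * k with h13
  set k24 := d * k * d with h24
  set k35 := e * d * e with h35
  set k14 := d * k13 * d with h14
  set k25 := e * k24 * e with h25
  set k15 := e * k14 * e with h15
  have m13 : k13 ∈ X := cl hk hi
  have m24 : k24 ∈ X := cl hd hk
  have m35 : k35 ∈ X := cl he hd
  have m14 : k14 ∈ X := cl hd m13
  have m25 : k25 ∈ X := cl he m24
  have m15 : k15 ∈ X := cl he m14
  have i35 : Commute i k35 := (cei.symm.mul_right cdi.symm).mul_right cei.symm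
  have e13 : Commute e k13 := (cek.mul_right cei).mul_right cek
  have c13_24 : Commute k13 k24 := by
    rw [h24, br hd hk ndk]; exact cc hk cdi.symm
  have c24_35 : Commute k24 k35 := by
    rw [h35, br he hd ned]; exact cc hd cek.symm
  have d24 : d * k24 * d = k := back hd rfl
  have e35 : e * k35 * e = d := back he rfl
  have d35 : d * e * d = k35 := by rw [h35, br he hd ned]
  have c14_23 : Commute k14 k := by have := cc hd c13_24; rwa [← h14, d24] at this
  have c14_35 : Commute k14 k35 := by have := cc hd e13.symm; rwa [← h14, d35] at this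
  have c25_34 : Commute k25 d := by have := cc he c24_35; rwa [← h25, e35] at this
  have c25_13 : Commute k25 k13 := by have := cc he c13_24.symm; rwa [← h25, fx he e13] at this
  have c25_14 : Commute k25 k14 := by
    have := cc hd c25_13; rwa [fx hd c25_34.symm, ← h14] at this
  have c15_23 : Commute k15 k := by have := cc he c14_23; rwa [← h15, fx he cek] at this
  have c15_34 : Commute k15 d := by have := cc he c14_35; rwa [← h15, e35] at this
  have c15_24 : Commute k15 k24 := by
    have := cc he c25_14.symm; rwa [← h15, back he (show e * k24 * e = k25 from rfl)] at this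
  set T : Fin 10 → G := ![i, k13, k14, k15, k, k24, k25, d, k35, e] with hT
  set S : Fin 4 → G := ![i, k, d, e] with hS
  have hTX : ∀ p, T p ∈ X := by intro p; fin_cases p <;> assumption
  have hSX : ∀ s, S s ∈ X := by intro s; fin_cases s <;> assumption
  have i23 : i * k * i = k13 := by rw [h13, br hk hi nki]
  have i14 : i * k14 * i = k24 := by
    rw [h14, h24]
    calc i * (d * k13 * d) * i = (i * d) * k13 * (d * i) := by simp only [mul_assoc]
      _ = (d * i) * k13 * (i * d) := by rw [cdi.eq]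
      _ = d * (i * k13 * i) * d := by simp only [mul_assoc]
      _ = d * k * d := by rw [back hi i23]
  have i15 : i * k15 * i = k25 := by
    rw [h15, h25]
    calc i * (e * k14 * e) * i = (i * e) * k14 * (e * i) := by simp only [mul_assoc]
      _ = (e * i) * k14 * (i * e) := by rw [cei.eq]
      _ = e * (i * k14 * i) * e := by simp only [mul_assoc]
      _ = e * k24 * e := by rw [i14]
  have k34 : k * d * k = k24 := by rw [h24, br hd hk ndk]
  have k25' : k * k25 * k = k35 := by
    rw [h25, h35]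
    calc k * (e * k24 * e) * k = (k * e) * k24 * (e * k) := by simp only [mul_assoc]
      _ = (e * k) * k24 * (k * e) := by rw [cek.eq]
      _ = e * (k * k24 * k) * e := by simp only [mul_assoc]
      _ = e * d * e := by rw [back hk k34]
  have hact : ∀ s p, S s * T p * S s = T (pairAct s p) := by
    intro s p
    fin_cases s <;> fin_cases p <;> simp only [hT, hS, pairAct] <;>
      first
        | exact fx hi (Commute.refl i) | exact fx hk (Commute.refl k) | exact fx hd (Commute.refl d)
        | exact fx he (Commute.refl e)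
        | exact fx hi cdi.symm | exact fx hi cei.symm | exact fx hi i35
        | exact fx hk cek.symm | exact fx hk c14_23.symm | exact fx hk c15_23.symm
        | exact fx hd cdi | exact fx hd c25_34.symm | exact fx hd c15_34.symm
        | exact fx he cei | exact fx he cek | exact fx he e13
        | exact i23 | exact back hi i23 | exact i14 | exact back hi i14 | exact i15 | exact back hi i15
        | exact rfl | exact back hk rfl | exact k34 | exact back hk k34 | exact k25' | exact back hk k25'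
        | exact d35 | exact back hd d35 | exact back hd rfl | exact back he rfl
  have hW : ∀ (w : List (Fin 4)) p q, Commute (T (actW w p)) (T (actW w q)) ↔ Commute (T p) (T q) := by
    intro w p q
    induction w with
    | nil => rfl
    | cons s w ih =>
      rw [← ih]
      show Commute (T (pairAct s (actW w p))) (T (pairAct s (actW w q))) ↔ _
      have hsi : (S s)⁻¹ = S s := inv_eq hE (hDX (hSX s))
      rw [← hact, ← hact, ← conj_commute_iff (S s) (T (actW w p)), hsi]
  have hcomm : ∀ p q, p ≠ q → (Commute (T p) (T q) ↔ disj p q = true) := by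
    intro p q hpq
    obtain ⟨h1, h2⟩ := reach_ok p q hpq
    generalize reach.getD (10 * p.val + q.val) [] = w at h1 h2
    conv_lhs => rw [← h1, ← h2, hW]
    cases disj p q
    · exact iff_of_false (fun c => nki c.symm) Bool.false_ne_true
    · exact iff_of_true cdi.symm rfl
  obtain ⟨hcommon, hsep, hthree⟩ := petersen
  have hinj : Function.Injective T := by
    intro p q e
    by_contra hpq
    obtain ⟨r, h1, h2, h3⟩ := hsep p q hpq
    have hpr : p ≠ r := fun e => by subst e; exact absurd h1 (by simp [disj_self])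
    have := (hcomm p r hpr).2 h1
    rw [e] at this
    rw [(hcomm q r h3.symm).1 this] at h2
    exact Bool.noConfusion h2
  -- every neighbour of one of the ten is one of them
  have hnb : ∀ p, ∀ y ∈ X, y ≠ T p → Commute y (T p) → y ∈ Set.range T := by
    intro p y hy hne hc
    obtain ⟨q, r, s, nqr, nqs, nrs, dq, dr, ds⟩ := hthree p
    have hmem : ∀ q, disj p q = true → T q ∈ {y | y ∈ X ∧ y ≠ T p ∧ Commute y (T p)} := fun q dq =>
      have hpq : p ≠ q := fun e => by subst e; exact absurd dq (by simp [disj_self])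
      ⟨hTX q, fun e => hpq (hinj e).symm, ((hcomm p q hpq).2 dq).symm⟩
    have h3 := (quad_nbrs h ha hb hab hf hg hfg (hTX p)).1
    have hsub : ({T q, T r, T s} : Set G) ⊆ {y | y ∈ X ∧ y ≠ T p ∧ Commute y (T p)} := by
      rintro z (rfl | rfl | rfl)
      exacts [hmem q dq, hmem r dr, hmem s ds]
    have he3 := Set.eq_of_subset_of_ncard_le hsub (by
      rw [h3, Set.ncard_insert_of_notMem (by simp [hinj.eq_iff, nqr, nqs]) (Set.toFinite _),
        Set.ncard_pair (hinj.ne nrs)]) (Set.toFinite _)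
    have hy' : y ∈ ({T q, T r, T s} : Set G) := by rw [he3]; exact ⟨hy, hne, hc⟩
    rcases hy' with e | e | e <;> exact ⟨_, e.symm⟩
  have h18 : X.ncard = 18 := quad_card h ha hb hab hf hg hfg
  have hrc : (Set.range T).ncard = 10 := by rw [Set.ncard_range_of_injective hinj, Nat.card_fin]
  obtain ⟨y, hy, hyr⟩ := Set.exists_mem_notMem_of_ncard_lt_ncard (show (Set.range T).ncard < X.ncard by omega)
    (Set.toFinite _)
  have hnc : ∀ p, ¬ Commute y (T p) := fun p c => hyr (hnb p y hy (fun e => hyr ⟨p, e.symm⟩) c)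
  set Z := fun p => y * T p * y with hZ
  have hback : ∀ p, y * Z p * y = T p := fun p => back hy rfl
  have hZinj : Function.Injective Z := fun p q e => hinj (by rw [← hback p, ← hback q, e])
  have hZT : ∀ p, Z p ∉ Set.range T := by
    rintro p ⟨q, hq⟩
    by_cases hpq : p = q
    · subst hpq
      refine hnc p ?_
      have : y * T p * y = T p := hq.symm
      show y * T p = T p * y
      conv_rhs => rw [← this, mul_assoc, sq hy, mul_one]
    by_cases hd' : disj p q = true
    · have hc := (hcomm p q hpq).2 hd'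
      rw [hq, hZ] at hc
      simp only at hc
      rw [braid hE (hDX hy) (hDX (hTX p)) (hnc p)] at hc
      exact not_commute_third hE (hDX (hTX p)) (hDX hy) (fun c => hnc p c.symm) hc
    obtain ⟨r, h1, h2⟩ := hcommon p q hpq (by simpa using hd')
    have hrp : r ≠ p := fun e => by subst e; exact absurd h1 (by simp [disj_self])
    have hrq : r ≠ q := fun e => by subst e; exact absurd h2 (by simp [disj_self])
    have c1 := (hcomm r p hrp).2 h1
    have c2 := (hcomm r q hrq).2 h2
    refine hnc r ?_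
    have ey : y = T p * T q * T p := by
      rw [hq, hZ]
      show y = T p * (y * T p * y) * T p
      rw [braid hE (hDX hy) (hDX (hTX p)) (hnc p)]
      calc y = (T p * T p) * y * (T p * T p) := by rw [sq (hTX p), one_mul, mul_one]
        _ = T p * (T p * y * T p) * T p := by simp only [mul_assoc]
    rw [ey]
    exact ((c1.mul_right c2).mul_right c1).symm
  have hyZ : y ∉ Set.range Z := fun ⟨p, hp⟩ => by
    refine hyr ⟨p, ?_⟩
    rw [← hback p, hp, sq hy, one_mul]
  have hsub : insert y (Set.range T ∪ Set.range Z) ⊆ X := by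
    rintro z (rfl | ⟨p, rfl⟩ | ⟨p, rfl⟩)
    exacts [hy, hTX p, cl hy (hTX p)]
  have hd2 : Disjoint (Set.range T) (Set.range Z) := Set.disjoint_right.2 fun z ⟨p, hp⟩ => hp ▸ hZT p
  have := Set.ncard_le_ncard hsub (Set.toFinite _)
  rw [Set.ncard_insert_of_notMem (fun hh => hh.elim hyr hyZ) (Set.toFinite _),
    Set.ncard_union_eq hd2 (Set.toFinite _) (Set.toFinite _), hrc, Set.ncard_range_of_injective hZinj,
    Nat.card_fin] at this
  omega

end Cfsg.Lib.ThreeTr.Y332
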