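import Cfsg.Agent.ThreeTransposition.Y332.Tuple
import Cfsg.Agent.ThreeTransposition.Y332.Checks
import Mathlib.GroupTheory.NoncommPiCoprod

/-!
The three further relations hold among nine members on the graph in a group of type M(22).
-/

set_option autoImplicit false
set_option linter.unusedSectionVars false
set_option linter.style.haveILetI false

namespace Cfsg.Lib.ThreeTr.Y332

open Cfsg Subgroup

universe u

variable {G : Type u} [Group G] {D : Set G}

/-- The nine members as a function of the letters' numbers. -/
def letters (v : Fin 9 → G) (k : ℕ) : G := if hk : k < 9 then v ⟨k, hk⟩ else 1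

theorem adjN_joined : ∀ k l : Fin 9, adjN k.val l.val = joined k l := by decide +kernel

theorem adjN_lt {s t : ℕ} (h : adjN s t = true) : s < 9 ∧ t < 9 := by
  simp only [adjN, graphEdges, Bool.or_eq_true, List.contains_iff_mem, List.mem_cons, List.not_mem_nil, or_false,
    Prod.mk.injEq] at h
  omega

theorem spread_ok : ∀ s t : Fin 6, adjN (letter6 s) (letter6 t) = true →
    refl6 t (Pi.single s 1) - Pi.single s 1 = Pi.single t 1 := by decide +kernel

theorem image_ok : ∀ s k : Fin 6, refl6 s (Pi.single k 1) = if s = k then -Pi.single k 1 else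
    if adjN (letter6 s) (letter6 k) then Pi.single k 1 + Pi.single s 1 else Pi.single k 1 := by decide +kernel

namespace Nine

variable {v : Fin 9 → G}

theorem letters_mem (hv : Nine D v) {k : ℕ} (hk : k < 9) : letters v k ∈ D := by
  rw [letters, dif_pos hk]; exact hv.mem _

theorem good (hE : IsThreeTranspositionSet D) (hv : Nine D v) : Good (letters v) where
  sq s := by
    rw [letters]
    split
    · exact sq_eq_one hE (hv.mem _)
    · exact one_mul 1
  comm s t hne h := by
    rw [letters, letters]
    split
    · split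
      · rename_i hs ht
        refine (hv.rel ⟨s, hs⟩ ⟨t, ht⟩ fun e => hne (Fin.ext_iff.1 e)).2 ?_
        rw [← adjN_joined]; exact h
      · exact Commute.one_right _
    · exact Commute.one_left _
  braid s t h := by
    obtain ⟨hs, ht⟩ := adjN_lt h
    rw [letters, letters, dif_pos hs, dif_pos ht]
    refine braid hE (hv.mem _) (hv.mem _) fun c => ?_
    have hne : (⟨s, hs⟩ : Fin 9) ≠ ⟨t, ht⟩ := fun e => by
      have : ∀ k : Fin 9, joined k k = false := by decide
      have := this ⟨s, hs⟩
      nth_rewrite 2 [e] at this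
      rw [← adjN_joined] at this
      simp [h] at this
    have := (hv.rel _ _ hne).1 c
    rw [← adjN_joined] at this
    simp [h] at this

end Nine

theorem wv_pow (m : ℕ → G) (n : ℕ) (w : List ℕ) : wv m (powWord n w) = wv m w ^ n := by
  simp [powWord, wv, List.map_flatten, List.prod_flatten, List.map_replicate, List.prod_replicate]

variable [Finite G]

/-- An involution commuting with members is a product of members commuting with them. -/
theorem central_trivial (h : M22 D) (S : List G) (hS : ∀ s ∈ S, s ∈ D)
    (hno : ∀ x ∈ D, ¬ ∀ s ∈ S, Commute x s) {z : G} (hz2 : z * z = 1) (hzc : ∀ s ∈ S, Commute s z) : z = 1 := by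
  by_contra hz
  obtain ⟨l, hn, h1, h3, hD, hc, hp⟩ := h.involution_form (x := z)
    (orderOf_eq_prime (hp := ⟨Nat.prime_two⟩) (by rw [sq]; exact hz2) hz)
  have hE := h.cls.1
  match l, h1, h3 with
  | [a], _, _ =>
    refine hno a (hD a (by simp)) fun s hs => ?_
    have e : a = z := by simpa using hp
    exact e ▸ (hzc s hs).symm
  | [a, b], _, _ =>
    refine hno a (hD a (by simp)) fun s hs => ((commute_pair_iff hE (hD a (by simp)) (hD b (by simp)) (hS s hs)
      (by simpa using hn) (hc a (by simp) b (by simp))).1 ?_).1.symm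
    have e : a * b = z := by simpa using hp
    exact e ▸ hzc s hs
  | [a, b, c], _, _ =>
    obtain ⟨⟨hab, hac⟩, hbc⟩ : (a ≠ b ∧ a ≠ c) ∧ b ≠ c := by simpa using hn
    refine hno a (hD a (by simp)) fun s hs => ((commute_triple_iff hE (hD a (by simp)) (hD b (by simp)) (hD c (by simp))
      (hS s hs) hab hac hbc (hc a (by simp) b (by simp)) (hc a (by simp) c (by simp))
      (hc b (by simp) c (by simp))).1 ?_).1.symm
    have e : a * b * c = z := by simpa [mul_assoc] using hp
    exact e ▸ hzc s hs

/-- A conjugate of a letter by a word is a member. -/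
theorem wv_conj_mem (h : M22 D) {m : ℕ → G} (hm : Good m) (w : List ℕ) {x : G} (hx : x ∈ D) :
    wv m w * x * (wv m w)⁻¹ ∈ D := conj_mem h.cls _ hx

/-- Multiples of the first unit element. -/
def cycThree {H : Type u} [Group H] (a : H) (ha : a ^ 3 = 1) : Multiplicative (ZMod 3) →* H where
  toFun x := a ^ x.toAdd.val
  map_one' := by simp
  map_mul' x y := by
    rw [← pow_add, toAdd_mul, ZMod.val_add]
    exact (pow_eq_pow_mod _ ha).symm

section Spider

variable (h : M22 D) {v : Fin 9 → G} (hv : Nine D v)
include h hv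

/-- The root member. -/
theorem root_facts : wv (letters v) rootWord ∈ D ∧
    ∀ k ∈ ([0, 3, 4, 5, 7, 8] : List (Fin 9)), Commute (wv (letters v) rootWord) (v k) := by
  have hg := hv.good h.cls.1
  have hmem : wv (letters v) rootWord ∈ D := by
    rw [rootWord, hg.conj, wv_singleton]
    exact wv_conj_mem h hg _ (hv.letters_mem (by decide))
  refine ⟨hmem, fun k hk => ?_⟩
  have aux : ∀ i : Fin 6, Commute (wv (letters v) rootWord) (letters v (([0, 3, 4, 5, 7, 8] : List ℕ).getD i.val 0)) := by
    intro i
    have e := hg.kills (root_ok i)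
    simp only [wv_append, wv_singleton] at e
    rw [commute_iff_sq (sq_eq_one h.cls.1 hmem) (hg.sq _), sq, ← e]
    simp only [mul_assoc]
  simp only [List.mem_cons, List.not_mem_nil, or_false] at hk
  rcases hk with rfl | rfl | rfl | rfl | rfl | rfl
  exacts [aux 0, aux 1, aux 2, aux 3, aux 4, aux 5]

theorem trans_cube (k : Fin 6) : wv (letters v) (transWord k) ^ 3 = 1 := by
  have hg := hv.good h.cls.1
  obtain ⟨hr, hc⟩ := root_facts h hv
  rw [transWord, hg.conj, wv_append, wv_singleton, conj_pow]
  rw [cube_of_not_commute h.cls.1 hr (hv.letters_mem (k := 1) (by decide)) (hv.affine _ hr hc), mul_one, mul_inv_cancel]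

theorem trans_comm (k l : Fin 6) : Commute (wv (letters v) (transWord k)) (wv (letters v) (transWord l)) := by
  have hg := hv.good h.cls.1
  have aux : ∀ {k l : Fin 6}, k < l → Commute (wv (letters v) (transWord k)) (wv (letters v) (transWord l)) := by
    intro k l hkl
    have e := hg.kills (comm_ok k l hkl)
    simp only [wv_append, hg.rev, mul_assoc, ← mul_inv_rev] at e
    rw [← mul_assoc, mul_inv_eq_one] at e
    exact e
  rcases lt_trichotomy k l with hk | rfl | hk
  exacts [aux hk, Commute.refl _, (aux hk).symm]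

/-- The translations modulo three. -/
noncomputable def transHom : (Fin 6 → Multiplicative (ZMod 3)) →* G :=
  MonoidHom.noncommPiCoprod (fun k => cycThree (wv (letters v) (transWord k)) (trans_cube h hv k))
    fun k l _ x y => (trans_comm h hv k l).pow_pow _ _

/-- The translation of a vector modulo three. -/
noncomputable def phi (x : Fin 6 → ZMod 3) : G := transHom h hv fun k => Multiplicative.ofAdd (x k)

theorem phi_add (x y : Fin 6 → ZMod 3) : phi h hv (x + y) = phi h hv x * phi h hv y := by
  rw [phi, phi, phi, ← map_mul]; rfl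

theorem phi_zero : phi h hv 0 = 1 := by rw [phi]; exact map_one _

theorem phi_single (k : Fin 6) : phi h hv (Pi.single k 1) = wv (letters v) (transWord k) := by
  have e : (fun j => Multiplicative.ofAdd ((Pi.single k 1 : Fin 6 → ZMod 3) j)) =
      Pi.mulSingle k (Multiplicative.ofAdd (1 : ZMod 3)) := by
    funext j
    by_cases hj : j = k
    · subst hj; simp
    · simp [hj]
  rw [phi, e]
  refine (MonoidHom.noncommPiCoprod_mulSingle _ _ _).trans ?_
  show wv (letters v) (transWord k) ^ (1 : ZMod 3).val = _
  rw [show (1 : ZMod 3).val = 1 from rfl, pow_one]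

theorem phi_neg (x : Fin 6 → ZMod 3) : phi h hv (-x) = (phi h hv x)⁻¹ :=
  eq_inv_of_mul_eq_one_left (by rw [← phi_add, neg_add_cancel, phi_zero])

/-- Homomorphic maps agreeing on the unit vectors agree. -/
theorem ext_single {f g : (Fin 6 → ZMod 3) → G} (hf : ∀ x y, f (x + y) = f x * f y)
    (hg : ∀ x y, g (x + y) = g x * g y) (he : ∀ k, f (Pi.single k 1) = g (Pi.single k 1)) (x : Fin 6 → ZMod 3) :
    f x = g x := by
  have z : ∀ {f : (Fin 6 → ZMod 3) → G}, (∀ x y, f (x + y) = f x * f y) → f 0 = 1 := fun {f} hf => by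
    have := hf 0 0
    rw [add_zero] at this
    exact left_eq_mul.1 this
  have hs : ∀ (k : Fin 6) (n : ℕ), f (n • Pi.single k 1) = g (n • Pi.single k 1) := by
    intro k n
    induction n with
    | zero => rw [zero_smul, z hf, z hg]
    | succ n ih => rw [succ_nsmul, hf, hg, ih, he]
  have e : x = (x 0).val • Pi.single 0 1 + (x 1).val • Pi.single 1 1 + (x 2).val • Pi.single 2 1 +
      (x 3).val • Pi.single 3 1 + (x 4).val • Pi.single 4 1 + (x 5).val • Pi.single 5 1 := by
    simp only [← Pi.single_smul, nsmul_one, ZMod.natCast_zmod_val]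
    funext j
    fin_cases j <;> simp
  rw [e]
  simp only [hf, hg, hs]

theorem refl6_add (s : Fin 6) (x y : Fin 6 → ZMod 3) : refl6 s (x + y) = refl6 s x + refl6 s y := by
  funext j
  simp only [refl6, Pi.add_apply]
  split
  · ring
  · rfl

theorem refl6_conj (s : Fin 6) (x : Fin 6 → ZMod 3) :
    phi h hv (refl6 s x) = letters v (letter6 s) * phi h hv x * (letters v (letter6 s))⁻¹ := by
  have hg := hv.good h.cls.1
  refine ext_single h hv (f := fun x => phi h hv (refl6 s x))
    (g := fun x => letters v (letter6 s) * phi h hv x * (letters v (letter6 s))⁻¹)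
    (fun x y => by simp only [refl6_add h hv, phi_add]) (fun x y => by simp only [phi_add]; group) (fun k => ?_) x
  have e := hg.kills (conj_ok s k)
  simp only [wv_append, wv_singleton, hg.rev] at e
  rw [mul_inv_eq_one] at e
  rw [phi_single, show (letters v (letter6 s))⁻¹ = letters v (letter6 s)
    from (eq_inv_of_mul_eq_one_right (hg.sq (letter6 s))).symm, e]
  have er : refl6 s (Pi.single k 1) = if s = k then -Pi.single k 1 else
      if adjN (letter6 s) (letter6 k) then Pi.single k 1 + Pi.single s 1 else Pi.single k 1 := by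
    exact image_ok s k
  rw [er, imageWord]
  split_ifs
  · rw [phi_neg, phi_single, hg.rev]
  · rw [phi_add, phi_single, phi_single, wv_append]
  · rw [phi_single]

theorem act6_conj : ∀ (w : List (Fin 6)) (x : Fin 6 → ZMod 3),
    phi h hv (act6 w x) = wv (letters v) (w.map letter6) * phi h hv x * (wv (letters v) (w.map letter6))⁻¹
  | [], x => by simp [act6, wv]
  | s :: w, x => by
    show phi h hv (refl6 s (act6 w x)) = _
    rw [refl6_conj, act6_conj w x, List.map_cons, wv_cons, mul_inv_rev]
    simp only [mul_assoc]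

theorem act6_add (w : List (Fin 6)) (x y : Fin 6 → ZMod 3) : act6 w (x + y) = act6 w x + act6 w y := by
  induction w with
  | nil => rfl
  | cons s w ih =>
    show refl6 s (act6 w (x + y)) = refl6 s (act6 w x) + refl6 s (act6 w y)
    rw [ih, refl6_add h hv]

/-- The vectors with trivial translation, unless the radical is among them, are zero. -/
theorem phi_injective (hz : phi h hv ![0, 0, 1, 2, 2, 1] ≠ 1) : Function.Injective (phi h hv) := by
  intro x y hxy
  by_contra hne
  apply hz
  have hsub : ∀ {x y}, phi h hv x = 1 → phi h hv y = 1 → phi h hv (x + y) = 1 := fun h1 h2 => by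
    rw [phi_add, h1, h2, one_mul]
  have hneg : ∀ {x}, phi h hv x = 1 → phi h hv (-x) = 1 := fun h1 => by rw [phi_neg, h1, inv_one]
  have hrefl : ∀ {x} (s), phi h hv x = 1 → phi h hv (refl6 s x - x) = 1 := fun {x} s h1 => by
    rw [sub_eq_add_neg]
    exact hsub (by rw [refl6_conj, h1, mul_one, mul_inv_cancel]) (hneg h1)
  have hk : phi h hv (x - y) = 1 := by rw [sub_eq_add_neg, phi_add, phi_neg, hxy, mul_inv_cancel]
  have hd0 : x - y ≠ 0 := sub_ne_zero.2 hne
  generalize x - y = d at hk hd0
  by_cases hall : ∀ s, refl6 s d = d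
  · have e : d = ![d 0, d 1, d 2, d 3, d 4, d 5] := by funext j; fin_cases j <;> rfl
    rw [e] at hall hd0 hk
    rcases radical_ok _ _ _ _ _ _ hall with e' | e' | e'
    · exact absurd e' hd0
    · rwa [e'] at hk
    · rw [e'] at hk
      have := hneg hk
      rwa [show -(![0, 0, 2, 1, 1, 2] : Fin 6 → ZMod 3) = ![0, 0, 1, 2, 2, 1] from by decide] at this
  obtain ⟨s, hs⟩ := not_forall.1 hall
  have h1 := hrefl s hk
  have hsingle : refl6 s d - d = Pi.single s ((refl6 s d - d) s) := by
    funext j
    by_cases hj : j = s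
    · subst hj; simp
    · simp [refl6, hj]
  have hc0 : (refl6 s d - d) s ≠ 0 := fun e => hs (sub_eq_zero.1 (by rw [hsingle, e, Pi.single_zero]))
  generalize (refl6 s d - d) s = c at hsingle hc0
  rw [hsingle] at h1
  have hS : phi h hv (Pi.single s 1) = 1 := by
    have cases : ∀ c : ZMod 3, c ≠ 0 → c = 1 ∨ c = -1 := by decide
    rcases cases c hc0 with rfl | rfl
    · exact h1
    · have := hneg h1
      rwa [← Pi.single_neg, neg_neg] at this
  have hstep : ∀ s t : Fin 6, adjN (letter6 s) (letter6 t) = true → phi h hv (Pi.single s 1) = 1 →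
      phi h hv (Pi.single t 1) = 1 := by
    intro s t hst hs
    have := hrefl t hs
    have e : refl6 t (Pi.single s 1) - Pi.single s 1 = Pi.single t 1 := by
      exact spread_ok s t hst
    rwa [e] at this
  have h0 : phi h hv (Pi.single 1 1) = 1 := by
    fin_cases s
    · exact hstep 0 1 (by decide) hS
    · exact hS
    · exact hstep 2 1 (by decide) hS
    · exact hstep 2 1 (by decide) (hstep 3 2 (by decide) hS)
    · exact hstep 4 1 (by decide) hS
    · exact hstep 4 1 (by decide) (hstep 5 4 (by decide) hS)
  have k2 := hstep 1 2 (by decide) h0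
  have k4 := hstep 1 4 (by decide) h0
  have k3 := hstep 2 3 (by decide) k2
  have k5 := hstep 4 5 (by decide) k4
  rw [show (![0, 0, 1, 2, 2, 1] : Fin 6 → ZMod 3) = Pi.single 2 1 + (Pi.single 3 1 + Pi.single 3 1) +
    (Pi.single 4 1 + Pi.single 4 1) + Pi.single 5 1 from by decide]
  exact hsub (hsub (hsub k2 (hsub k3 k3)) (hsub k4 k4)) k5

theorem sigma_eq : wv (letters v) sigmaWord ^ 10 = phi h hv ![0, 0, 1, 2, 2, 1] := by
  have hg := hv.good h.cls.1
  have e := hg.kills sigma_ok
  rw [wv_append, hg.rev, mul_inv_eq_one, wv_pow] at e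
  rw [e, show (![0, 0, 1, 2, 2, 1] : Fin 6 → ZMod 3) = Pi.single 2 1 + -Pi.single 3 1 + -Pi.single 4 1 +
    -(Pi.single 5 1 + Pi.single 5 1) from by decide]
  simp only [phi_add, phi_neg, phi_single, sigmaImage, sigmaImage.rep, wv_append, hg.rev]
  have e3 : ∀ k, wv (letters v) (List.replicate 3 (transWord k)).flatten = 1 := fun k => by
    rw [← powWord, wv_pow, trans_cube h hv k]
  rw [e3, e3, show (List.replicate 2 (transWord 5).reverse).flatten = (transWord 5).reverse ++ (transWord 5).reverse
    from by simp [List.replicate], wv_append, hg.rev, mul_inv_rev]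
  simp only [one_mul]

/-- The relation of the long element of the star. -/
theorem spider : wv (letters v) sigmaWord ^ 10 = 1 := by
  rw [sigma_eq h hv]
  by_contra hz
  have hinj := phi_injective h hv hz
  obtain ⟨a, ha, -⟩ := h.type.2
  -- the elements acting on the translations, with their actions
  let Q : Subgroup (G × Equiv.Perm (Fin 6 → ZMod 3)) :=
    { carrier := {p | ∀ x, p.1 * phi h hv x * p.1⁻¹ = phi h hv (p.2 x)}
      one_mem' := fun x => by simp
      mul_mem' := fun {p q} hp hq x => by
        rw [Prod.fst_mul, Prod.snd_mul, Equiv.Perm.mul_apply, ← hp (q.2 x), ← hq x]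
        group
      inv_mem' := fun {p} hp x => by
        simp only [Prod.fst_inv, Prod.snd_inv, inv_inv]
        have := hp (p.2⁻¹ x)
        rw [show p.2 (p.2⁻¹ x) = x from p.2.apply_symm_apply x] at this
        rw [← this]; group }
  have hfst : Function.Injective ((MonoidHom.fst G _).comp Q.subtype) := by
    rintro ⟨⟨g, σ⟩, hσ⟩ ⟨⟨g', τ⟩, hτ⟩ e
    change g = g' at e
    subst e
    refine Subtype.ext (Prod.ext rfl (Equiv.ext fun x => hinj ?_))
    exact (hσ x).symm.trans (hτ x)
  have hdvd : Nat.card Q ∣ Nat.card G := Subgroup.card_dvd_of_injective _ hfst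
  set rho := (MonoidHom.snd G _).comp Q.subtype
  have hq := card_eq_card_quotient_mul_card_subgroup rho.ker
  rw [Nat.card_congr (QuotientGroup.quotientKerEquivRange rho).toEquiv] at hq
  have hker : 729 ∣ Nat.card rho.ker := by
    let i : (Fin 6 → Multiplicative (ZMod 3)) →* rho.ker :=
      { toFun := fun x => ⟨⟨(transHom h hv x, 1), fun y => by
          show transHom h hv x * phi h hv y * (transHom h hv x)⁻¹ = phi h hv y
          rw [phi, ← map_inv, ← map_mul, ← map_mul, mul_comm x, mul_inv_cancel_right]⟩, rfl⟩
        map_one' := Subtype.ext (Subtype.ext (Prod.ext (map_one _) rfl))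
        map_mul' := fun x y => Subtype.ext (Subtype.ext (Prod.ext (map_mul _ x y) (by simp))) }
    have hi : Function.Injective i := fun x y e => by
      have e' : transHom h hv x = transHom h hv y :=
        congrArg (fun z : rho.ker => ((z : Q) : G × Equiv.Perm (Fin 6 → ZMod 3)).1) e
      have := @hinj (fun k => (x k).toAdd) (fun k => (y k).toAdd) e'
      funext k
      exact Multiplicative.toAdd.injective (congrFun this k)
    have := Subgroup.card_dvd_of_injective i hi
    rwa [Nat.card_fun, Nat.card_eq_fintype_card (α := Multiplicative (ZMod 3)), Nat.card_fin, Fintype.card_multiplicative,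
      ZMod.card, show (3 : ℕ) ^ 6 = 729 by norm_num] at this
  have hg := hv.good h.cls.1
  -- the reflections as permutations
  have hinv : ∀ s, Function.Involutive (refl6 s) := fun s x => hinj (by
    rw [refl6_conj, refl6_conj, show (letters v (letter6 s))⁻¹ = letters v (letter6 s) from
      (eq_inv_of_mul_eq_one_right (hg.sq _)).symm]
    calc _ = (letters v (letter6 s) * letters v (letter6 s)) * phi h hv x *
          (letters v (letter6 s) * letters v (letter6 s)) := by simp only [mul_assoc]
      _ = _ := by rw [hg.sq, one_mul, mul_one])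
  let P : List (Fin 6) → Equiv.Perm (Fin 6 → ZMod 3) := fun w => (w.map fun s => (hinv s).toPerm (refl6 s)).prod
  have hP : ∀ w x, P w x = act6 w x := by
    intro w x
    induction w with
    | nil => rfl
    | cons s w ih =>
      show ((hinv s).toPerm (refl6 s) * P w) x = _
      rw [Equiv.Perm.mul_apply, ih]; rfl
  have hPmem : ∀ w, P w ∈ rho.range := fun w =>
    ⟨⟨(wv (letters v) (w.map letter6), P w), fun x => by rw [hP, act6_conj]⟩, rfl⟩
  have hPext : ∀ u w, (∀ k, act6 u (Pi.single k 1) = act6 w (Pi.single k 1)) → P u = P w := fun u w e =>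
    Equiv.ext fun x => hinj (by
      rw [hP, hP]
      exact ext_single h hv (f := fun x => phi h hv (act6 u x)) (g := fun x => phi h hv (act6 w x))
        (fun x y => by simp only [act6_add h hv, phi_add]) (fun x y => by simp only [act6_add h hv, phi_add])
        (fun k => by simp only [e k]) x)
  have hPapp : ∀ u w, P (u ++ w) = P u * P w := fun u w => by simp [P]
  let S := Set.range fun j : Fin 81 => P (sylowWord j)
  have hS1 : (1 : Equiv.Perm (Fin 6 → ZMod 3)) ∈ S := ⟨0, by simp [P, sylowWord, sylowSeq]⟩
  have hSmul : ∀ σ ∈ S, ∀ g : Fin 4, σ * P (sylowGen g) ∈ S := by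
    rintro _ ⟨j, rfl⟩ g
    refine ⟨(sylowMul.getD j.val []).getD g.val 0, ?_⟩
    simp only
    rw [← hPapp]
    refine (hPext _ _ fun k => ?_).symm
    rw [← sylow_mul j g k, act6, List.foldr_append]; rfl
  let C := closure (Set.range fun g : Fin 4 => P (sylowGen g))
  have hCS : (C : Set (Equiv.Perm (Fin 6 → ZMod 3))) = S := by
    refine Set.Subset.antisymm (fun σ hσ => ?_) ?_
    · refine closure_induction_right (p := fun x _ => x ∈ S) hS1 ?_ ?_ hσ
      · rintro x _ y ⟨g, rfl⟩ hx
        exact hSmul x hx g
      · rintro x _ y ⟨g, rfl⟩ hx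
        have hbij : Function.Bijective (fun z : S => (⟨z.1 * P (sylowGen g), hSmul z.1 z.2 g⟩ : S)) :=
          Finite.injective_iff_bijective.1 fun z z' e => Subtype.ext (mul_right_cancel (congrArg Subtype.val e))
        obtain ⟨z, hz⟩ := hbij.2 ⟨x, hx⟩
        have : z.1 * P (sylowGen g) = x := congrArg Subtype.val hz
        rw [← this, mul_inv_cancel_right]
        exact z.2
    · rintro _ ⟨j, rfl⟩
      simp only [sylowWord]
      induction sylowSeq.getD j.val [] with
      | nil => exact one_mem C
      | cons g l ih =>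
        rw [List.map_cons, List.flatten_cons, hPapp]
        exact mul_mem (subset_closure ⟨g, rfl⟩) ih
  have hC81 : Nat.card C = 81 := by
    rw [← SetLike.coe_sort_coe, hCS, Nat.card_range_of_injective, Nat.card_fin]
    intro i j e
    have hn := List.inj_on_of_nodup_map sylow_inj (List.mem_finRange i) (List.mem_finRange j)
    refine hn (List.flatMap_congr fun k _ => List.map_congr_left fun t _ => ?_)
    simp only at e
    rw [← hP, ← hP, e]
  have h81 : 81 ∣ Nat.card rho.range := by
    rw [← hC81]
    refine Subgroup.card_dvd_of_le ((closure_le _).2 ?_)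
    rintro _ ⟨g, rfl⟩
    exact hPmem _
  have := (mul_dvd_mul h81 hker).trans (hq ▸ hdvd)
  rw [h.card_group ha] at this
  norm_num at this

end Spider

/-- The nine members satisfy the three further relations. -/
theorem relators (h : M22 D) {v : Fin 9 → G} (hv : Nine D v) :
    wv (letters v) sigmaWord ^ 10 = 1 ∧ wv (letters v) longWord₁ ^ 9 = 1 ∧ wv (letters v) longWord₂ ^ 9 = 1 := by
  have hg := hv.good h.cls.1
  have long : ∀ (L : List ℕ) (C : List (ℕ × ℕ)) (K : List (Fin 9)), L = K.map Fin.val → L.length = 7 →
      (∀ i : Fin 7, kills (C.getD i.val (0, 0)) ([L.getD i.val 0] ++ powWord 9 L ++ [L.getD i.val 0] ++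
        (powWord 9 L).reverse) = true) → kills (C.getD 7 (0, 0)) (powWord 9 L ++ powWord 9 L) = true →
      (∀ x ∈ D, ¬ ∀ k ∈ K, Commute x (v k)) → wv (letters v) L ^ 9 = 1 := by
    intro L C K hL h7 hcomm hsq hno
    rw [← wv_pow]
    refine central_trivial h (K.map v) (fun s hs => ?_) (fun x hx hall => hno x hx fun k hk =>
      hall _ (List.mem_map_of_mem hk)) ?_ fun s hs => ?_
    · obtain ⟨k, -, rfl⟩ := List.mem_map.1 hs; exact hv.mem k
    · rw [← wv_append]; exact hg.kills hsq
    · obtain ⟨k, hk, rfl⟩ := List.mem_map.1 hs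
      have hkL : k.val ∈ L := hL ▸ List.mem_map_of_mem hk
      obtain ⟨n, hn, e⟩ := List.mem_iff_getElem.1 hkL
      have e2 := hg.kills (hcomm ⟨n, h7 ▸ hn⟩)
      simp only [wv_append, wv_singleton, hg.rev, List.getD_eq_getElem _ 0 hn, e] at e2
      rw [show letters v k.val = v k from by simp [letters], mul_inv_eq_one] at e2
      rw [commute_iff_eq]
      calc v k * wv (letters v) (powWord 9 L) = v k * wv (letters v) (powWord 9 L) * (v k * v k) := by
            rw [sq_eq_one h.cls.1 (hv.mem k), mul_one]
        _ = _ := by rw [← mul_assoc, e2]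
  exact ⟨spider h hv, long _ longCert₁ [0, 1, 2, 3, 4, 5, 7] rfl rfl long₁_ok.1 long₁_ok.2 hv.long₁,
    long _ longCert₂ [1, 2, 3, 4, 5, 6, 7] rfl rfl long₂_ok.1 long₂_ok.2 hv.long₂⟩

end Cfsg.Lib.ThreeTr.Y332
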