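import Cfsg.Agent.ThreeTransposition.Y332.NoChain
import Cfsg.Agent.ThreeTransposition.M22Count.Involutions

/-!
Nine members of a class of type M(22) commuting as prescribed by the graph with arms of lengths three, three, two.
-/

set_option autoImplicit false
set_option linter.unusedSectionVars false
set_option linter.style.haveILetI false

namespace Cfsg.Lib.ThreeTr.Y332

open Cfsg Subgroup Cfsg.Lib.Classical Cfsg.Lib.TTUnitary

attribute [local instance] _root_.Classical.propDecidable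

universe u

/-- The joined letters of the graph. -/
def joined (k l : Fin 9) : Bool :=
  decide ((k, l) ∈ ([(0, 1), (1, 2), (2, 3), (3, 4), (3, 7), (4, 5), (5, 6), (7, 8)] : List (Fin 9 × Fin 9)) ∨
    (l, k) ∈ ([(0, 1), (1, 2), (2, 3), (3, 4), (3, 7), (4, 5), (5, 6), (7, 8)] : List (Fin 9 × Fin 9)))

/-- Nine members on the graph, with what is needed of them. -/
structure Nine {G : Type u} [Group G] (D : Set G) (v : Fin 9 → G) : Prop where
  mem : ∀ k, v k ∈ D
  rel : ∀ k l, k ≠ l → (Commute (v k) (v l) ↔ joined k l = false)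
  long₁ : ∀ x ∈ D, ¬ ∀ k ∈ ([0, 1, 2, 3, 4, 5, 7] : List (Fin 9)), Commute x (v k)
  long₂ : ∀ x ∈ D, ¬ ∀ k ∈ ([1, 2, 3, 4, 5, 6, 7] : List (Fin 9)), Commute x (v k)
  affine : ∀ x ∈ D, (∀ k ∈ ([0, 3, 4, 5, 7, 8] : List (Fin 9)), Commute x (v k)) → ¬ Commute x (v 1)

variable {G : Type u} [Group G] [Finite G] {D : Set G}

/-- A path of six common neighbours has no common neighbour of its last five. -/
theorem no_six (h : M22 D) {a b : G} (ha : a ∈ D) (hb : b ∈ D) (hab : ¬ Commute a b) {p q r s t u x : G}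
    (hp : p ∈ Common D a b) (hq : q ∈ Common D a b) (hr : r ∈ Common D a b) (hs : s ∈ Common D a b)
    (ht : t ∈ Common D a b) (hu : u ∈ Common D a b) (hx : x ∈ Common D a b) (npq : ¬ Commute p q)
    (nrs : ¬ Commute r s) (nst : ¬ Commute s t) (ntu : ¬ Commute t u) (cpr : Commute p r) (cps : Commute p s)
    (cpt : Commute p t) (cpu : Commute p u) (cqs : Commute q s) (cqt : Commute q t) (cqu : Commute q u)
    (crt : Commute r t) (cru : Commute r u) (csu : Commute s u)
    (cxq : Commute x q) (cxr : Commute x r) (cxs : Commute x s) (cxt : Commute x t) (cxu : Commute x u) : False := by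
  by_cases cxp : Commute x p
  · have hxu : x ≠ u := fun e => ntu (e ▸ cxt).symm
    have hxs : x ≠ s := fun e => nst (e ▸ cxt)
    have hpu : p ∈ perp D u := ⟨hp.1.1, fun e => ntu (e ▸ cpt).symm, cpu.symm⟩
    have hqu : q ∈ perp D u := ⟨hq.1.1, fun e => ntu (e ▸ cqt).symm, cqu.symm⟩
    have hsu : s ∈ perp D u := ⟨hs.1.1, fun e => nrs (by rw [e]; exact cru), csu.symm⟩
    have hxp : x ∈ perp D u := ⟨hx.1.1, hxu, cxu.symm⟩
    obtain ⟨h1, h2⟩ := ends h ha hb hab hu
    exact hxs ((count_three h hu.1.1 h1 h2 hab hpu hqu npq hp.1.2.2.symm hp.2.2.2.symm hq.1.2.2.symm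
      hq.2.2.2.symm).2 s hsu x hxp hs.1.2.2.symm hs.2.2.2.symm cps.symm cqs.symm hx.1.2.2.symm hx.2.2.2.symm cxp
      cxq cxs.symm)
  · exact no_chain h ha hb hab hp hx (fun c => cxp c.symm) (e := r) (d := s) (k := t) (i := u)
      ⟨hr, cpr.symm, cxr.symm⟩ ⟨hs, cps.symm, cxs.symm⟩ ⟨ht, cpt.symm, cxt.symm⟩ ⟨hu, cpu.symm, cxu.symm⟩
      nrs nst ntu crt cru csu

/-- The nine members exist. -/
theorem exists_nine (h : M22 D) : ∃ v : Fin 9 → G, Nine D v := by
  obtain ⟨-, a, ha, b, hb, hab, -⟩ := h.type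
  set S := Common D a b with hS
  obtain ⟨i, hi⟩ := Set.nonempty_of_ncard_ne_zero (s := S) (by rw [hS, h.mu_eq ha hb hab]; norm_num)
  obtain ⟨k, hk, nki⟩ := h.exists_far ha hb hab hi
  -- a member `d` with three common neighbours near `k` and `i`
  have hX := quad_card h ha hb hab hk hi nki
  set X := Quad D a b k i with hXdef
  set N := {z | z ∈ S ∧ z ≠ i ∧ Commute z i ∧ ¬ Commute z k} with hN
  have hN45 : N.ncard ≤ 45 := (Set.ncard_le_ncard (fun z hz => (⟨hz.1, hz.2.1, hz.2.2.1⟩ :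
    z ∈ {z | z ∈ S ∧ z ≠ i ∧ Commute z i})) (Set.toFinite _)).trans (degree h ha hb hab hi).le
  have habove : ∀ x ∈ X, 9 ≤ ({d | d ∈ N ∧ Commute x d}).ncard := by
    intro x hx
    obtain ⟨h1, h2⟩ := ends h ha hb hab hx.1
    obtain ⟨h3, h4⟩ := quad_perp h ha hb hab hk hi nki hx
    have c13 := count_thirteen h hx.1.1.1 h1 h2 hab h4 hi.1.2.2.symm hi.2.2.2.symm
    have c3 := (count_three h hx.1.1.1 h1 h2 hab h3 h4 nki hk.1.2.2.symm hk.2.2.2.symm hi.1.2.2.symm
      hi.2.2.2.symm).1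
    have hcov : {z | z ∈ perp D x ∧ Commute z a ∧ Commute z b ∧ Commute z i} ⊆ insert i
        ({d | d ∈ N ∧ Commute x d} ∪
          {z | z ∈ perp D x ∧ Commute z a ∧ Commute z b ∧ Commute z k ∧ Commute z i}) := by
      rintro z ⟨hz, hza, hzb, hzi⟩
      simp only [Set.mem_insert_iff, Set.mem_union, Set.mem_ofPred_eq]
      by_cases e1 : z = i
      · exact Or.inl e1
      by_cases e2 : Commute z k
      · exact Or.inr (Or.inr ⟨hz, hza, hzb, e2, hzi⟩)
      · exact Or.inr (Or.inl ⟨⟨mem_common h ha hb hab hz hza hzb, e1, hzi, e2⟩, hz.2.2⟩)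
    have := Set.ncard_le_ncard hcov (Set.toFinite _)
    have e1 := Set.ncard_insert_le i ({d | d ∈ N ∧ Commute x d} ∪
      {z | z ∈ perp D x ∧ Commute z a ∧ Commute z b ∧ Commute z k ∧ Commute z i})
    have e3 := Set.ncard_union_le {d | d ∈ N ∧ Commute x d}
      {z | z ∈ perp D x ∧ Commute z a ∧ Commute z b ∧ Commute z k ∧ Commute z i}
    omega
  obtain ⟨d, hd, h2lt⟩ : ∃ d ∈ N, 2 < ({x | x ∈ X ∧ Commute x d}).ncard := by
    by_contra hne
    push Not at hne
    have := count_le (fun x d => Commute x d) habove hne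
    rw [hX] at this
    omega
  obtain ⟨hd, hdi', cdi, ndk⟩ := hd
  obtain ⟨f, g, hf, hg, nfg⟩ : ∃ f g, f ∈ {x | x ∈ X ∧ Commute x d} ∧ g ∈ {x | x ∈ X ∧ Commute x d} ∧
      ¬ Commute f g := by
    by_contra hne
    push Not at hne
    obtain ⟨x, y, z, hx, hy, hz, n1, n2, n3⟩ := (Set.two_lt_ncard_iff (Set.toFinite _)).1 h2lt
    exact no_triple h ha hb hab hk.1 hi.1 nki hx.1.1 hy.1.1 hz.1.1 n1 n2 n3 (hne x y hx hy) (hne x z hx hz)
      (hne y z hy hz) hx.1.2.1 hx.1.2.2 hy.1.2.1 hy.1.2.2 hz.1.2.1 hz.1.2.2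
  obtain ⟨⟨hf, cfk, cfi⟩, cfd⟩ := hf
  obtain ⟨⟨hg, cgk, cgi⟩, cgd⟩ := hg
  -- the member `e`
  obtain ⟨hga, hgb⟩ := ends h ha hb hab hg
  have hkg : k ∈ perp D g := ⟨hk.1.1, fun e => nki (by rw [e]; exact cgi), cgk⟩
  have hig : i ∈ perp D g := ⟨hi.1.1, fun e => nki (by rw [e]; exact cgk.symm), cgi⟩
  obtain ⟨hT, hTnc⟩ := count_three h hg.1.1 hga hgb hab hkg hig nki hk.1.2.2.symm hk.2.2.2.symm hi.1.2.2.symm
    hi.2.2.2.symm
  set T := {z | z ∈ perp D g ∧ Commute z a ∧ Commute z b ∧ Commute z k ∧ Commute z i} with hTdef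
  have hdg : d ∈ perp D g := ⟨hd.1.1, fun e => ndk (e ▸ cgk), cgd⟩
  obtain ⟨e, ⟨heg, cea, ceb, cek, cei⟩, ned⟩ : ∃ e ∈ T, ¬ Commute e d := by
    by_contra hne
    push Not at hne
    obtain ⟨e₁, e₂, he₁, he₂, ne⟩ := (Set.one_lt_ncard_iff (Set.toFinite _)).1 (show 1 < T.ncard by omega)
    have n12 : ¬ Commute e₁ e₂ := fun c => ne (hTnc e₁ he₁.1 e₂ he₂.1 he₁.2.1 he₁.2.2.1 he₁.2.2.2.1 he₁.2.2.2.2
      he₂.2.1 he₂.2.2.1 he₂.2.2.2.1 he₂.2.2.2.2 c).symm
    have c4 := (count_three h hg.1.1 hga hgb hab he₁.1 he₂.1 n12 he₁.2.1 he₁.2.2.1 he₂.2.1 he₂.2.2.1).1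
    have hkik : k * i * k ∈ perp D g := ⟨conj_invol_mem h.cls hk.1.1 hi.1.1, fun e => nki (by
        have hkg' : Commute k (k * i * k) := by rw [e]; exact cgk.symm
        exact absurd hkg' (not_commute_third h.cls.1 hk.1.1 hi.1.1 nki)),
      (cgk.mul_right cgi).mul_right cgk⟩
    have hsub : ({k, i, k * i * k, d} : Set G) ⊆
        {z | z ∈ perp D g ∧ Commute z a ∧ Commute z b ∧ Commute z e₁ ∧ Commute z e₂} := by
      rintro z (rfl | rfl | rfl | rfl)
      · exact ⟨hkg, hk.1.2.2.symm, hk.2.2.2.symm, he₁.2.2.2.1.symm, he₂.2.2.2.1.symm⟩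
      · exact ⟨hig, hi.1.2.2.symm, hi.2.2.2.symm, he₁.2.2.2.2.symm, he₂.2.2.2.2.symm⟩
      · exact ⟨hkik, (hk.1.2.2.symm.mul_left hi.1.2.2.symm).mul_left hk.1.2.2.symm,
          (hk.2.2.2.symm.mul_left hi.2.2.2.symm).mul_left hk.2.2.2.symm,
          (he₁.2.2.2.1.symm.mul_left he₁.2.2.2.2.symm).mul_left he₁.2.2.2.1.symm,
          (he₂.2.2.2.1.symm.mul_left he₂.2.2.2.2.symm).mul_left he₂.2.2.2.1.symm⟩
      · exact ⟨hdg, hd.1.2.2.symm, hd.2.2.2.symm, (hne e₁ he₁).symm, (hne e₂ he₂).symm⟩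
    have := Set.ncard_le_ncard hsub (Set.toFinite _)
    have ki : k ≠ i := fun e => nki (e ▸ Commute.refl k)
    have kx : k ≠ k * i * k := fun e => not_commute_third h.cls.1 hk.1.1 hi.1.1 nki (e ▸ Commute.refl k)
    have ix : i ≠ k * i * k := fun e => by
      have : ¬ Commute i (k * i * k) := by
        rw [braid h.cls.1 hk.1.1 hi.1.1 nki]
        exact not_commute_third h.cls.1 hi.1.1 hk.1.1 fun c => nki c.symm
      exact this (e ▸ Commute.refl i)
    have kd : k ≠ d := fun e => ndk (e ▸ Commute.refl k)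
    have id' : i ≠ d := fun e => hdi' e.symm
    have xd : k * i * k ≠ d := fun e => by
      have : ¬ Commute i (k * i * k) := by
        rw [braid h.cls.1 hk.1.1 hi.1.1 nki]
        exact not_commute_third h.cls.1 hi.1.1 hk.1.1 fun c => nki c.symm
      exact this (e ▸ cdi.symm)
    rw [c4, Set.ncard_insert_of_notMem (by simp [ki, kx, kd]) (Set.toFinite _),
      Set.ncard_insert_of_notMem (by simp [ix, id']) (Set.toFinite _), Set.ncard_pair xd] at this
    omega
  have he : e ∈ S := mem_common h ha hb hab heg cea ceb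
  have nfe : ¬ Commute f e := fun c => no_chain h ha hb hab hf hg nfg (e := e) (d := d) (k := k) (i := i)
    ⟨he, c.symm, heg.2.2.symm⟩ ⟨hd, cfd.symm, cgd.symm⟩ ⟨hk, cfk.symm, cgk.symm⟩ ⟨hi, cfi.symm, cgi.symm⟩
    ned ndk nki cek cei cdi
  -- the member `c`
  obtain ⟨F, _, _, H, π, vec, hM⟩ := h.exists_model ha
  have hS6 := hM.six
  haveI := hS6.fd
  have hq := hS6.toFour
  have o := fun {s r : G} (hs : s ∈ perp D a) (hr : r ∈ perp D a) (hsr : Commute s r) =>
    (hM.comm_iff h ha hs hr).1 hsr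
  have n := fun {s r : G} (hs : s ∈ perp D a) (hr : r ∈ perp D a) (hsr : ¬ Commute s r) =>
    fun e => hsr ((hM.comm_iff h ha hs hr).2 e)
  set lam := H.h (vec g) (vec f) * (H.h (vec e) (vec f))⁻¹ with hlam
  have hef := n he.1 hf.1 fun c => nfe c.symm
  have hlam0 : lam ≠ 0 := mul_ne_zero (n hg.1 hf.1 fun c => nfg c.symm) (inv_ne_zero hef)
  set w := vec g + lam • vec e with hw
  have cge : Commute g e := heg.2.2
  have hwf : H.h w (vec f) = 0 := by
    rw [hw, H.add_left, H.smul_left, hlam, mul_assoc, inv_mul_cancel₀ hef, mul_one]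
    exact hq.add_self _
  have hww : H.h w w = 0 := by
    simp only [hw, H.add_left, H.add_right, H.smul_left, H.smul_right, hM.vec_iso g hg.1, hM.vec_iso e he.1,
      o hg.1 he.1 cge, o he.1 hg.1 cge.symm, mul_zero, add_zero]
  have hw0 : w ≠ 0 := fun e' => heg.2.1 ((hM.eq_of_prop h ha hg.1 he.1 (hq.eq_of_vadd e')).symm)
  obtain ⟨c, hc, t, ht, hct⟩ := hM.cover w hw0 hww
  have conv : ∀ z ∈ perp D a, Commute c z ↔ H.h (vec g) (vec z) + lam * H.h (vec e) (vec z) = 0 := by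
    intro z hz
    rw [hM.comm_iff h ha hc hz, ← mul_eq_zero_iff_left ht, ← H.smul_left, ← hct, hw, H.add_left, H.smul_left]
  have ccf : Commute c f := (conv f hf.1).2 (by rw [← H.smul_left, ← H.add_left]; exact hwf)
  have cce : Commute c e := (conv e he.1).2 (by rw [o hg.1 he.1 cge, hM.vec_iso e he.1, mul_zero, add_zero])
  have ccg : Commute c g := (conv g hg.1).2 (by rw [hM.vec_iso g hg.1, o he.1 hg.1 cge.symm, mul_zero, add_zero])
  have cck : Commute c k := (conv k hk.1).2 (by rw [o hg.1 hk.1 cgk, o he.1 hk.1 cek, mul_zero, add_zero])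
  have cci : Commute c i := (conv i hi.1).2 (by rw [o hg.1 hi.1 cgi, o he.1 hi.1 cei, mul_zero, add_zero])
  have ncd : ¬ Commute c d := fun hcd => by
    have := (conv d hd.1).1 hcd
    rw [o hg.1 hd.1 cgd, zero_add, mul_eq_zero, or_iff_right hlam0] at this
    exact n he.1 hd.1 ned this
  have hce : c ≠ e := fun e' => nfe (by rw [← e']; exact ccf.symm)
  have ncb : ¬ Commute c b := fun hcb => by
    have hcS : c ∈ S := ⟨hc, hc.1, fun e' => hab (e' ▸ hc.2.2), hcb.symm⟩
    have hcg : c ∈ perp D g := ⟨hc.1, fun e' => nfg (by rw [← e']; exact ccf.symm), ccg.symm⟩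
    exact hce (hTnc c hcg e heg hc.2.2.symm hcb cck cci cea ceb cek cei cce).symm
  -- common neighbours of `a`, `c` and `e` near the pair `k`, `i` commute with `g`
  have hline : ∀ x ∈ D, Commute x a → Commute x c → Commute x e → Commute x g := fun x hx h1 h2 h3 =>
    collinear h ha hk.1 hi.1 nki hc he.1 hg.1 hce cce ccg cge.symm cck cci cek cei cgk cgi hx h1 h2 h3
  have five : ∀ x ∈ S, Commute x k → Commute x d → Commute x e → Commute x f → Commute x g → False :=
    fun x hx c1 c2 c3 c4 c5 => no_six h ha hb hab hi hk hd he hf hg hx (fun c => nki c.symm) (fun c => ned c.symm)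
      (fun c => nfe c.symm) nfg cdi.symm cei.symm cfi.symm cgi.symm cek.symm cfk.symm cgk.symm cfd.symm cgd.symm
      cge.symm c1 c2 c3 c4 c5
  refine ⟨![a, b, c, d, e, f, g, k, i], ⟨?_, ?_, ?_, ?_, ?_⟩⟩
  · intro j
    fin_cases j
    exacts [ha, hb, hc.1, hd.1.1, he.1.1, hf.1.1, hg.1.1, hk.1.1, hi.1.1]
  · intro p q hpq
    have main : ∀ p q : Fin 9, p < q → (Commute (![a, b, c, d, e, f, g, k, i] p)
        (![a, b, c, d, e, f, g, k, i] q) ↔ joined p q = false) := by
      intro p q hpq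
      fin_cases p <;> fin_cases q <;> simp [joined] at hpq ⊢ <;>
        first
          | exact hab | exact fun c => hab c | exact fun h' => ncb h'.symm | exact ncd | exact fun h' => ned h'.symm
          | exact ndk | exact fun h' => nfe h'.symm | exact nfg | exact nki
          | exact hc.2.2 | exact hd.1.2.2 | exact he.1.2.2 | exact hf.1.2.2 | exact hg.1.2.2 | exact hk.1.2.2
          | exact hi.1.2.2
          | exact hd.2.2.2 | exact he.2.2.2 | exact hf.2.2.2 | exact hg.2.2.2 | exact hk.2.2.2 | exact hi.2.2.2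
          | exact cce | exact ccf | exact ccg | exact cck | exact cci
          | exact cfd.symm | exact cgd.symm | exact cdi
          | exact cge.symm | exact cek | exact cei | exact cfk | exact cfi | exact cgk | exact cgi
    rcases lt_or_gt_of_ne hpq with h' | h'
    · exact main p q h'
    · rw [Commute.symm_iff, main q p h']
      simp only [joined, or_comm]
  · intro x hx hall
    simp only [List.forall_mem_cons, List.forall_mem_nil, Matrix.cons_val] at hall
    obtain ⟨xa, xb, xc, xd, xe, xf, xk, -⟩ := hall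
    have hxS : x ∈ S := ⟨⟨hx, fun e' => hab (e' ▸ xb), xa.symm⟩, hx, fun e' => hab (e' ▸ xa).symm, xb.symm⟩
    exact five x hxS xk xd xe xf (hline x hx xa xc xe)
  · intro x hx hall
    simp only [List.forall_mem_cons, List.forall_mem_nil, Matrix.cons_val] at hall
    obtain ⟨xb, xc, xd, xe, xf, xg, xk, -⟩ := hall
    have hxa' : x ≠ a := fun e' => hab (e' ▸ xb)
    have hxe : x ≠ e := fun e' => ned (e' ▸ xd)
    -- seen from `e`, `a` and `x` lie in one totally isotropic plane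
    have hep : ∀ {y : G}, y ∈ D → y ≠ e → Commute e y → y ∈ perp D e := fun h1 h2 h3 => ⟨h1, h2, h3⟩
    have cxa : Commute x a := plane_commute h he.1.1 (g := g) (k := k) (c := c) (w := b)
      (hep hg.1.1 heg.2.1.symm cge.symm) (hep hk.1.1 (fun e' => nfe (e' ▸ cfk)) cek)
      (hep hc.1 hce cce.symm) (hep hb he.2.2.1.symm he.2.2.2.symm) (hep ha he.1.2.1.symm he.1.2.2.symm)
      (hep hx hxe xe.symm) (fun e' => nki (by rw [← e']; exact cgi)) cgk ccg.symm cck.symm hg.2.2.2 hk.2.2.2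
      (fun h' => ncb h'.symm) hg.1.2.2 hk.1.2.2 hc.2.2 xg xk xc
    have hxS : x ∈ S := ⟨⟨hx, hxa', cxa.symm⟩, hx, fun e' => hab (e' ▸ cxa).symm, xb.symm⟩
    exact five x hxS xk xd xe xf xg
  · intro x hx hall
    simp only [List.forall_mem_cons, List.forall_mem_nil, Matrix.cons_val] at hall
    obtain ⟨xa, xd, xe, xf, xk, xi, -⟩ := hall
    show ¬ Commute x b
    intro xb
    have hxS : x ∈ S := ⟨⟨hx, fun e' => hab (e' ▸ xb), xa.symm⟩, hx, fun e' => hab (e' ▸ xa).symm, xb.symm⟩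
    exact no_six h ha hb hab hg hf he hd hk hi hxS (fun c => nfg c.symm) ned ndk nki cge cgd cgk cgi cfd cfk cfi
      cek cei cdi xf xe xd xk xi

end Cfsg.Lib.ThreeTr.Y332
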