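import Mathlib.Algebra.BigOperators.Group.List.Basic
import Mathlib.Algebra.Group.Commute.Basic
import Mathlib.Data.Fin.VecNotation

/-!
Rewriting words in involutions that commute or braid as a graph prescribes.
-/

set_option autoImplicit false

namespace Cfsg.Lib.ThreeTr.Y332

/-- The joined pairs of letters, the smaller first. -/
def graphEdges : List (ℕ × ℕ) := [(0, 1), (1, 2), (2, 3), (3, 4), (3, 7), (4, 5), (5, 6), (7, 8)]

/-- Two letters are joined. -/
def adjN (s t : ℕ) : Bool := graphEdges.contains (s, t) || graphEdges.contains (t, s)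

/-- One move at a position: cancel, exchange, or braid. -/
def stepAt : ℕ → List ℕ → List ℕ
  | 0, s :: t :: w =>
    if s == t then w
    else if adjN s t then
      match w with
      | u :: w' => if u == s then t :: s :: t :: w' else s :: t :: u :: w'
      | [] => [s, t]
    else t :: s :: w
  | 0, w => w
  | p + 1, s :: w => s :: stepAt p w
  | _ + 1, [] => []

/-- The moves whose positions are the digits of the code in base 1024. -/
def run : ℕ → ℕ → List ℕ → List ℕ
  | 0, _, w => w
  | n + 1, code, w => run n (code / 1024) (stepAt (code % 1024) w)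

/-- A word reduces to the empty word. -/
def kills (c : ℕ × ℕ) (w : List ℕ) : Bool := (run c.1 c.2 w).isEmpty

variable {G : Type*} [Group G]

/-- Involutions on the graph. -/
structure Good (m : ℕ → G) : Prop where
  sq : ∀ s, m s * m s = 1
  comm : ∀ s t, s ≠ t → adjN s t = false → Commute (m s) (m t)
  braid : ∀ s t, adjN s t = true → m s * m t * m s = m t * m s * m t

/-- The value of a word. -/
def wv (m : ℕ → G) (w : List ℕ) : G := (w.map m).prod

variable {m : ℕ → G}

theorem wv_nil : wv m [] = 1 := rfl

theorem wv_cons (s : ℕ) (w : List ℕ) : wv m (s :: w) = m s * wv m w := by simp [wv]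

theorem wv_append (u w : List ℕ) : wv m (u ++ w) = wv m u * wv m w := by simp [wv]

theorem wv_singleton (s : ℕ) : wv m [s] = m s := by simp [wv]

theorem Good.rev (h : Good m) : ∀ w : List ℕ, wv m w.reverse = (wv m w)⁻¹
  | [] => by simp [wv]
  | s :: w => by
    rw [List.reverse_cons, wv_append, h.rev w, wv_singleton, wv_cons, mul_inv_rev]
    congr 1
    exact eq_inv_of_mul_eq_one_right (h.sq s)

theorem Good.step (h : Good m) : ∀ (p : ℕ) (w : List ℕ), wv m (stepAt p w) = wv m w
  | 0, [] => rfl
  | 0, [_] => rfl
  | 0, s :: t :: w => by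
    simp only [stepAt]
    split_ifs with e1 e2
    · rw [beq_iff_eq] at e1
      subst e1
      rw [wv_cons, wv_cons, ← mul_assoc, h.sq, one_mul]
    · match w with
      | [] => rfl
      | u :: w' =>
        simp only
        split_ifs with e3
        · rw [beq_iff_eq] at e3
          subst e3
          simp only [wv_cons, ← mul_assoc]
          rw [h.braid u t e2]
        · rfl
    · simp only [wv_cons, ← mul_assoc]
      rw [(h.comm s t (fun e => e1 (beq_iff_eq.2 e)) (by simpa using e2)).eq]
  | p + 1, [] => rfl
  | p + 1, s :: w => by rw [stepAt, wv_cons, wv_cons, h.step p w]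

theorem Good.run (h : Good m) : ∀ (n code : ℕ) (w : List ℕ), wv m (run n code w) = wv m w
  | 0, _, _ => rfl
  | n + 1, code, w => by rw [Y332.run, h.run n, h.step]

theorem Good.kills (h : Good m) {c : ℕ × ℕ} {w : List ℕ} (hk : kills c w = true) : wv m w = 1 := by
  rw [Y332.kills, List.isEmpty_iff] at hk
  rw [← h.run c.1 c.2 w, hk, wv_nil]

/-- A conjugate is written as a word. -/
theorem Good.conj (h : Good m) (u w : List ℕ) : wv m (u ++ w ++ u.reverse) = wv m u * wv m w * (wv m u)⁻¹ := by
  rw [wv_append, wv_append, h.rev]

end Cfsg.Lib.ThreeTr.Y332
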